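import Groth.Agent.FormalLib.ModPow

/-!
# Formal modules and a change of the base ring
-/

set_option autoImplicit false
set_option linter.style.haveILetI false

universe u

open CategoryTheory CategoryTheory.Limits AlgebraicGeometry TopologicalSpace Opposite
open Groth.Agent.ProjCoh

noncomputable section

namespace Groth.Agent.FormalEqLib

variable {A B : Type u} [CommRing A] [CommRing B] (g : A →+* B) {X : Scheme.{u}}
  [X.Over (Spec (CommRingCat.of A))] [X.Over (Spec (CommRingCat.of B))]
  (w : (X ↘ Spec (CommRingCat.of B)) ≫ Spec.map (CommRingCat.ofHom g) = X ↘ Spec (CommRingCat.of A))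

include w in
theorem smulMod_change (M : X.Modules) (a : A) : Formal.smulMod A M a = Formal.smulMod B M (g a) := by
  have h : Coh.toGlobal (X ↘ Spec (CommRingCat.of A)) a = Coh.toGlobal (X ↘ Spec (CommRingCat.of B)) (g a) := by
    show (X ↘ Spec (CommRingCat.of A)).appTop ((Scheme.ΓSpecIso (CommRingCat.of A)).inv a) =
      (X ↘ Spec (CommRingCat.of B)).appTop ((Scheme.ΓSpecIso (CommRingCat.of B)).inv (g a))
    rw [← w, Scheme.Hom.comp_appTop]
    exact congrArg _ (congr($(Scheme.ΓSpecIso_inv_naturality (CommRingCat.ofHom g)) a)).symm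
  unfold Formal.smulMod
  rw [h]

include w in
theorem smulMod_comp_map {M T : X.Modules} (t : M ⟶ T) (J : Ideal A) (h : ∀ a ∈ J, Formal.smulMod A M a ≫ t = 0) :
    ∀ b ∈ J.map g, Formal.smulMod B M b ≫ t = 0 := fun b hb => by
  refine Submodule.span_induction (p := fun b _ => Formal.smulMod B M b ≫ t = 0) ?_ ?_ ?_ ?_ hb
  · rintro _ ⟨a, ha, rfl⟩
    rw [← smulMod_change g w]
    exact h a ha
  · refine Scheme.Modules.hom_ext _ _ fun U => AddCommGrpCat.hom_ext (AddMonoidHom.ext fun s => ?_)
    show t.app U (φV (FormalLib.cst B X) U 0 • s) = 0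
    rw [map_zero, zero_smul, map_zero]
  · intro a b _ _ hA hB
    refine Scheme.Modules.hom_ext _ _ fun U => AddCommGrpCat.hom_ext (AddMonoidHom.ext fun s => ?_)
    show t.app U (φV (FormalLib.cst B X) U (a + b) • s) = 0
    rw [map_add, add_smul, map_add]
    exact (congrArg₂ (· + ·) congr($(hA).app U s) congr($(hB).app U s)).trans (add_zero _)
  · intro c b _ hB
    refine Scheme.Modules.hom_ext _ _ fun U => AddCommGrpCat.hom_ext (AddMonoidHom.ext fun s => ?_)
    show t.app U (φV (FormalLib.cst B X) U (c * b) • s) = 0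
    rw [map_mul, mul_comm, mul_smul]
    exact congr($(hB).app U (φV (FormalLib.cst B X) U c • s))

theorem smulFamily_comp_eq_zero_iff {R : Type u} [CommRing R] [X.Over (Spec (CommRingCat.of R))] {J : Ideal R}
    {M T : X.Modules} (t : M ⟶ T) :
    Formal.smulFamily J M ≫ t = 0 ↔ ∀ a ∈ J, Formal.smulMod R M a ≫ t = 0 := by
  refine ⟨fun h a ha => ?_, fun h => Sigma.hom_ext _ _ fun a => ?_⟩
  · have e := (Sigma.ι (fun _ : ↥J => M) ⟨a, ha⟩) ≫= h
    rw [← Category.assoc, Formal.smulFamily, Sigma.ι_desc, comp_zero] at e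
    exact e
  · rw [comp_zero, ← Category.assoc, Formal.smulFamily, Sigma.ι_desc]
    exact h a a.2

include w in
theorem family_iff {M T : X.Modules} (t : M ⟶ T) (J : Ideal A) :
    Formal.smulFamily J M ≫ t = 0 ↔ Formal.smulFamily (J.map g) M ≫ t = 0 := by
  rw [smulFamily_comp_eq_zero_iff, smulFamily_comp_eq_zero_iff]
  exact ⟨smulMod_comp_map g w t J, fun h a ha => by rw [smulMod_change g w]; exact h _ (Ideal.mem_map_of_mem _ ha)⟩

include w in
theorem killedBy_iff_map (M : X.Modules) (J : Ideal A) : Formal.KilledBy J M ↔ Formal.KilledBy (J.map g) M := by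
  constructor
  · intro h b hb
    have := smulMod_comp_map g w (𝟙 M) J (fun a ha => by rw [h a ha, zero_comp]) b hb
    rwa [Category.comp_id] at this
  · intro h a ha
    rw [smulMod_change g w]
    exact h _ (Ideal.mem_map_of_mem _ ha)

/-- The cokernels of the two families. -/
def cokerIso (M : X.Modules) (J : Ideal A) (K : Ideal B) (hK : K = J.map g) :
    cokernel (Formal.smulFamily J M) ≅ cokernel (Formal.smulFamily K M) where
  hom := cokernel.desc _ (cokernel.π _) (by subst hK; exact (family_iff g w _ J).2 (cokernel.condition _))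
  inv := cokernel.desc _ (cokernel.π _) (by subst hK; exact (family_iff g w _ J).1 (cokernel.condition _))
  hom_inv_id := coequalizer.hom_ext (by
    show cokernel.π _ ≫ cokernel.desc _ _ _ ≫ cokernel.desc _ _ _ = cokernel.π _ ≫ 𝟙 _
    rw [cokernel.π_desc_assoc, cokernel.π_desc, Category.comp_id])
  inv_hom_id := coequalizer.hom_ext (by
    show cokernel.π _ ≫ cokernel.desc _ _ _ ≫ cokernel.desc _ _ _ = cokernel.π _ ≫ 𝟙 _
    rw [cokernel.π_desc_assoc, cokernel.π_desc, Category.comp_id])

include w in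
theorem isCohFormal_iff (I : Ideal A) (G : ℕᵒᵖ ⥤ X.Modules) :
    Formal.IsCohFormal I G ↔ Formal.IsCohFormal (I.map g) G := by
  refine and_congr Iff.rfl (and_congr (forall_congr' fun n => ?_) (forall_congr' fun n => ?_))
  · rw [← Ideal.map_pow]
    exact killedBy_iff_map g w _ _
  · let c := cokerIso g w (G.obj (op (n + 1))) (I ^ (n + 1)) ((I.map g) ^ (n + 1)) (Ideal.map_pow _ _ _).symm
    constructor
    · rintro ⟨h, hi⟩
      have h' : Formal.smulFamily ((I.map g) ^ (n + 1)) (G.obj (op (n + 1))) ≫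
          G.map (homOfLE (Nat.le_succ n)).op = 0 := by
        exact (smulFamily_comp_eq_zero_iff _).2 fun a ha =>
          (smulFamily_comp_eq_zero_iff _).1 ((family_iff g w _ _).1 h) a (by rwa [Ideal.map_pow])
      refine ⟨h', ?_⟩
      have e : cokernel.desc _ _ h' = c.inv ≫ cokernel.desc _ _ h := coequalizer.hom_ext (by
        show cokernel.π _ ≫ _ = cokernel.π _ ≫ c.inv ≫ _
        simp only [c, cokerIso, cokernel.π_desc, cokernel.π_desc_assoc])
      rw [e]
      exact @IsIso.comp_isIso _ _ _ _ _ _ _ inferInstance hi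
    · rintro ⟨h', hi⟩
      have h : Formal.smulFamily (I ^ (n + 1)) (G.obj (op (n + 1))) ≫ G.map (homOfLE (Nat.le_succ n)).op = 0 := by
        exact (family_iff g w _ _).2 ((smulFamily_comp_eq_zero_iff _).2 fun a ha =>
          (smulFamily_comp_eq_zero_iff _).1 h' a (by rwa [← Ideal.map_pow]))
      refine ⟨h, ?_⟩
      have e : cokernel.desc _ _ h = c.hom ≫ cokernel.desc _ _ h' := coequalizer.hom_ext (by
        show cokernel.π _ ≫ _ = cokernel.π _ ≫ c.hom ≫ _
        simp only [c, cokerIso, cokernel.π_desc, cokernel.π_desc_assoc])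
      rw [e]
      exact @IsIso.comp_isIso _ _ _ _ _ _ _ inferInstance hi

end Groth.Agent.FormalEqLib
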