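import Groth.Agent.FormalEqLib.Main
import Groth.Agent.FormalEqLib.ChangeBase
import Groth.Agent.PuncSecLib.SectMod
import Groth.Agent.PuncSecLib.Extends
import Groth.Agent.RegLocal.Completion
import Groth.Agent.S3874
import Mathlib.RingTheory.AdicCompletion.AsTensorProduct

/-!
# Extending to the spectrum is algebraizing over the completion
-/

set_option autoImplicit false
set_option linter.style.haveILetI false
set_option maxHeartbeats 800000

universe u

open CategoryTheory CategoryTheory.Limits AlgebraicGeometry TopologicalSpace Opposite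

noncomputable section

namespace Groth.Agent.FormalEqLib

variable {A : Type u} [CommRing A]

theorem bijective_includeRight (I : Ideal A) (hI : I.FG) (n : ℕ) :
    Function.Bijective (Algebra.TensorProduct.includeRight :
      (A ⧸ I ^ n) →ₐ[A] TensorProduct A (AdicCompletion I A) (A ⧸ I ^ n)) := by
  let Q := A ⧸ I ^ n
  let ev : AdicCompletion I A →ₐ[A] Q := AdicCompletion.evalₐ I n
  let back : TensorProduct A (AdicCompletion I A) Q →ₐ[A] Q :=
    Algebra.TensorProduct.productMap ev (AlgHom.id A Q)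
  have h1 : ∀ q, back (Algebra.TensorProduct.includeRight q) = q := fun q => by
    show back (1 ⊗ₜ q) = q
    simp [back]
  have h2 : ∀ c : AdicCompletion I A, (c ⊗ₜ[A] (1 : Q)) = (1 : AdicCompletion I A) ⊗ₜ[A] ev c := fun c => by
    obtain ⟨a, ha⟩ := Ideal.Quotient.mk_surjective (ev c)
    have hmem : c - algebraMap A _ a ∈ RingHom.ker ev.toRingHom := by
      rw [RingHom.mem_ker, map_sub, sub_eq_zero]
      show ev c = ev (algebraMap A _ a)
      rw [AlgHom.commutes, ← ha]; rfl
    rw [Groth.Agent.S3874.ker_evalₐ I hI n, ← Ideal.map_pow] at hmem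
    have hz : ∀ d ∈ (I ^ n).map (algebraMap A (AdicCompletion I A)), (d ⊗ₜ[A] (1 : Q)) = 0 := fun d hd => by
      induction hd using Submodule.span_induction with
      | mem d hd =>
        obtain ⟨b, hb, rfl⟩ := hd
        rw [Algebra.algebraMap_eq_smul_one, TensorProduct.smul_tmul, ← Algebra.algebraMap_eq_smul_one,
          show algebraMap A Q b = 0 from Ideal.Quotient.eq_zero_iff_mem.2 hb, TensorProduct.tmul_zero]
      | zero => exact TensorProduct.zero_tmul _ _
      | add x y _ _ hx hy => rw [TensorProduct.add_tmul, hx, hy, add_zero]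
      | smul e d _ hd =>
        have : (e ⊗ₜ[A] (1 : Q)) * (d ⊗ₜ[A] (1 : Q)) = ((e • d) ⊗ₜ[A] (1 : Q)) := by
          rw [Algebra.TensorProduct.tmul_mul_tmul, mul_one, smul_eq_mul]
        rw [← this, hd, mul_zero]
    have h3 := hz _ hmem
    rw [TensorProduct.sub_tmul, sub_eq_zero] at h3
    rw [h3, ← ha, Algebra.algebraMap_eq_smul_one, TensorProduct.smul_tmul, ← Algebra.algebraMap_eq_smul_one]
    rfl
  refine ⟨Function.LeftInverse.injective h1, fun z => ?_⟩
  induction z using TensorProduct.induction_on with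
  | zero => exact ⟨0, map_zero _⟩
  | add x y hx hy =>
    obtain ⟨p, rfl⟩ := hx
    obtain ⟨q, rfl⟩ := hy
    exact ⟨p + q, map_add _ _ _⟩
  | tmul c q =>
    refine ⟨ev c * q, ?_⟩
    show (1 : AdicCompletion I A) ⊗ₜ[A] (ev c * q) = c ⊗ₜ[A] q
    have : (c ⊗ₜ[A] q) = (c ⊗ₜ[A] (1 : Q)) * ((1 : AdicCompletion I A) ⊗ₜ[A] q) := by
      rw [Algebra.TensorProduct.tmul_mul_tmul, mul_one, one_mul]
    rw [this, h2, Algebra.TensorProduct.tmul_mul_tmul, one_mul]

variable [IsNoetherianRing A] (I 𝔞 : Ideal A)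

/-- The completion. -/
abbrev AC : Type u := AdicCompletion I A

/-- The morphism of spectra. -/
abbrev pC : Spec (CommRingCat.of (AC I)) ⟶ Spec (CommRingCat.of A) :=
  Spec.map (CommRingCat.ofHom (algebraMap A (AC I)))

theorem preimage_puncturedOpen :
    pC I ⁻¹ᵁ LocCoh.puncturedOpen A 𝔞 = LocCoh.puncturedOpen (AC I) (𝔞.map (algebraMap A (AC I))) :=
  Opens.ext (Set.ext fun p => not_congr (Ideal.map_le_iff_le_comap (f := algebraMap A (AC I))).symm)

theorem exists_coh_completion_of_extends' {B : Type u} [CommRing B] [IsNoetherianRing B] (J 𝔟 : Ideal B)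
    [IsAdicComplete J B] {V : (Spec (CommRingCat.of B)).Opens} (hV : V = LocCoh.puncturedOpen B 𝔟)
    {G : ℕᵒᵖ ⥤ (V : Scheme.{u}).Modules}
    (h : @Algz.Extends B _ (Spec (CommRingCat.of B)) ⟨𝟙 (Spec (CommRingCat.of B))⟩ J V G) :
    ∃ F : (V : Scheme.{u}).Modules, Coh.IsCoh F ∧ Nonempty (Formal.completion J F ≅ G) := by
  subst hV
  exact PuncSecLib.exists_coh_completion_of_extends J 𝔟 h

theorem extends_of_completion' {B : Type u} [CommRing B] [IsNoetherianRing B] (J 𝔟 : Ideal B)
    {V : (Spec (CommRingCat.of B)).Opens} (hV : V = LocCoh.puncturedOpen B 𝔟)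
    {G : ℕᵒᵖ ⥤ (V : Scheme.{u}).Modules} {F : (V : Scheme.{u}).Modules} (hF : Coh.IsCoh F)
    (e : Formal.completion J F ≅ G) :
    @Algz.Extends B _ (Spec (CommRingCat.of B)) ⟨𝟙 (Spec (CommRingCat.of B))⟩ J V G := by
  subst hV
  exact PuncSecLib.extends_of_completion J 𝔟 F hF e

theorem extends_iff (G : ℕᵒᵖ ⥤ (LocCoh.puncturedOpen A 𝔞 : Scheme.{u}).Modules) (hG : Formal.IsCohFormal I G) :
    @Algz.Extends A _ (Spec (CommRingCat.of A)) ⟨𝟙 (Spec (CommRingCat.of A))⟩ I (LocCoh.puncturedOpen A 𝔞) G ↔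
      ∃ F' : (↑(pC I ⁻¹ᵁ (LocCoh.puncturedOpen A 𝔞)) : Scheme.{u}).Modules, Coh.IsCoh F' ∧
        Nonempty (Formal.completion (I.map (algebraMap A (AC I))) F' ≅
          G ⋙ Scheme.Modules.pullback (morphismRestrict (pC I) (LocCoh.puncturedOpen A 𝔞))) := by
  let R := AC I
  let U := LocCoh.puncturedOpen A 𝔞
  let U' := pC I ⁻¹ᵁ U
  let g : (U' : Scheme.{u}) ⟶ U := pC I ∣_ U
  haveI : IsNoetherianRing R := RegLocal.isNoetherianRing_completion _ _
  haveI : IsAdicComplete (I.map (algebraMap A R)) R :=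
    (IsAdicComplete.map_algebraMap_iff I R).2 (AdicCompletion.isAdicComplete (IsNoetherian.noetherian I))
  haveI : IsNoetherianRing (CommRingCat.of A : Type u) := inferInstanceAs (IsNoetherianRing A)
  haveI : IsNoetherianRing (CommRingCat.of R : Type u) := inferInstanceAs (IsNoetherianRing R)
  haveI : AlgebraicGeometry.IsNoetherian (Spec (CommRingCat.of A)) := inferInstance
  haveI : AlgebraicGeometry.IsNoetherian (Spec (CommRingCat.of R)) := inferInstance
  haveI : AlgebraicGeometry.IsNoetherian (U : Scheme.{u}) := by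
    haveI : IsLocallyNoetherian (U : Scheme.{u}) := isLocallyNoetherian_of_isOpenImmersion U.ι
    haveI : CompactSpace (U : Scheme.{u}) := isCompact_iff_compactSpace.1 (TopologicalSpace.NoetherianSpace.isCompact _)
    exact {}
  haveI : AlgebraicGeometry.IsNoetherian (U' : Scheme.{u}) := by
    haveI : IsLocallyNoetherian (U' : Scheme.{u}) := isLocallyNoetherian_of_isOpenImmersion U'.ι
    haveI : CompactSpace (U' : Scheme.{u}) := isCompact_iff_compactSpace.1 (TopologicalSpace.NoetherianSpace.isCompact _)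
    exact {}
  letI oA : (Spec (CommRingCat.of A)).Over (Spec (CommRingCat.of A)) := ⟨𝟙 _⟩
  letI oR : (Spec (CommRingCat.of R)).Over (Spec (CommRingCat.of R)) := ⟨𝟙 _⟩
  letI oRA : (Spec (CommRingCat.of R)).Over (Spec (CommRingCat.of A)) := ⟨pC I⟩
  letI oU' : (U' : Scheme.{u}).Over (Spec (CommRingCat.of A)) := ⟨U'.ι ≫ pC I⟩
  have wR : (Spec (CommRingCat.of R) ↘ Spec (CommRingCat.of R)) ≫ Spec.map (CommRingCat.ofHom (algebraMap A R)) =
      Spec (CommRingCat.of R) ↘ Spec (CommRingCat.of A) := Category.id_comp _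
  haveI : Flat (pC I) := by
    rw [HasRingHomProperty.Spec_iff (P := @Flat)]
    exact RingHom.flat_algebraMap_iff.2 (AdicCompletion.flat_of_isNoetherian I)
  haveI : Flat g := MorphismProperty.of_isPullback (isPullback_morphismRestrict (pC I) U).flip ‹Flat (pC I)›
  have hf : pC I ≫ (Spec (CommRingCat.of A) ↘ Spec (CommRingCat.of A)) =
      Spec (CommRingCat.of R) ↘ Spec (CommRingCat.of A) := Category.comp_id _
  have hwg : g ≫ (U.toScheme ↘ Spec (CommRingCat.of A)) = (U' : Scheme.{u}) ↘ Spec (CommRingCat.of A) := by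
    show g ≫ U.ι ≫ 𝟙 _ = U'.ι ≫ pC I
    rw [Category.comp_id, morphismRestrict_ι]
  have h₀ : IsIso (ft I (pC I) hf 0) := by
    let sA := pullback.snd (Spec (CommRingCat.of A) ↘ Spec (CommRingCat.of A)) (CohB1.specQuot I 0)
    haveI : IsIso (Spec (CommRingCat.of A) ↘ Spec (CommRingCat.of A)) := inferInstanceAs (IsIso (𝟙 _))
    haveI : IsIso sA := inferInstance
    have hs : pullback.snd (pC I) (CohB1.specQuot I 0) =
        (pullbackSpecIso A R (A ⧸ I ^ (0 + 1))).hom ≫ Spec.map (CommRingCat.ofHom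
          (Algebra.TensorProduct.includeRight : (A ⧸ I ^ (0 + 1)) →ₐ[A] TensorProduct A R (A ⧸ I ^ (0 + 1))).toRingHom) :=
      (pullbackSpecIso_hom_snd A R (A ⧸ I ^ (0 + 1))).symm
    have hi : IsIso (CommRingCat.ofHom (Algebra.TensorProduct.includeRight :
        (A ⧸ I ^ (0 + 1)) →ₐ[A] TensorProduct A R (A ⧸ I ^ (0 + 1))).toRingHom) :=
      (ConcreteCategory.isIso_iff_bijective _).2 (bijective_includeRight I (IsNoetherian.noetherian I) (0 + 1))
    have hsnd : IsIso (pullback.snd (pC I) (CohB1.specQuot I 0)) := by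
      haveI := hi
      rw [hs]
      exact IsIso.comp_isIso' (Iso.isIso_hom _) (inferInstance)
    have e : ft I (pC I) hf 0 ≫ sA = pullback.snd (pC I) (CohB1.specQuot I 0) :=
      (pullback.lift_snd _ _ _).trans (Category.comp_id _)
    haveI : IsIso (ft I (pC I) hf 0 ≫ sA) := by rw [e]; exact hsnd
    exact IsIso.of_isIso_comp_right (ft I (pC I) hf 0) sA
  have h₀U : IsIso (ft I g hwg 0) := by
    haveI := h₀
    let kU : Xt I (U : Scheme.{u}) 0 ⟶ Xt I (Spec (CommRingCat.of A)) 0 :=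
      pullback.map _ _ _ _ U.ι (𝟙 _) (𝟙 _) ((Category.comp_id _).trans rfl) ((Category.comp_id _).trans (Category.id_comp _).symm)
    let kU' : Xt I (U' : Scheme.{u}) 0 ⟶ Xt I (Spec (CommRingCat.of R)) 0 :=
      pullback.map _ _ _ _ U'.ι (𝟙 _) (𝟙 _) ((Category.comp_id _).trans rfl) ((Category.comp_id _).trans (Category.id_comp _).symm)
    have hout := (isPullback_ft I g hwg 0).paste_vert (isPullback_morphismRestrict (pC I) U)
    have e1 : kU' ≫ it I (Spec (CommRingCat.of R)) 0 = it I (U' : Scheme.{u}) 0 ≫ U'.ι := pullback.lift_fst _ _ _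
    have e2 : kU ≫ it I (Spec (CommRingCat.of A)) 0 = it I (U : Scheme.{u}) 0 ≫ U.ι := pullback.lift_fst _ _ _
    rw [← e1, ← e2] at hout
    have hsq : IsPullback (ft I g hwg 0) kU' kU (ft I (pC I) hf 0) := by
      refine IsPullback.of_bot hout (pullback.hom_ext ?_ ?_) (isPullback_ft I (pC I) hf 0)
      · rw [Category.assoc, Category.assoc, e2, ft_it, ← Category.assoc, ← Category.assoc, ft_it, e1,
          Category.assoc, Category.assoc, morphismRestrict_ι]
      · simp only [ft, kU, kU', Category.assoc, pullback.lift_snd, Category.comp_id]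
        exact ((pullback.lift_snd _ _ _).trans (Category.comp_id _)).symm
    exact MorphismProperty.of_isPullback (P := MorphismProperty.isomorphisms Scheme) hsq.flip
      (MorphismProperty.isomorphisms.infer_property _)
  have hc : ∀ (G' : ℕᵒᵖ ⥤ (Spec (CommRingCat.of A)).Modules),
      Nonempty (Algz.restrictSys U' (G' ⋙ Scheme.Modules.pullback (pC I)) ≅
        Algz.restrictSys U G' ⋙ Scheme.Modules.pullback g) := fun G' =>
    ⟨Functor.associator _ _ _ ≪≫ Functor.isoWhiskerLeft G'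
      (Functor.isoWhiskerLeft (Scheme.Modules.pullback (pC I)) (Scheme.Modules.restrictFunctorIsoPullback U'.ι) ≪≫
        Scheme.Modules.pullbackComp U'.ι (pC I) ≪≫
        Scheme.Modules.pullbackCongr (morphismRestrict_ι (pC I) U).symm ≪≫
        (Scheme.Modules.pullbackComp g U.ι).symm ≪≫
        Functor.isoWhiskerRight (Scheme.Modules.restrictFunctorIsoPullback U.ι).symm (Scheme.Modules.pullback g)) ≪≫
      (Functor.associator _ _ _).symm⟩
  constructor
  · rintro ⟨G', hG', ⟨e⟩⟩
    have hH := FormalSys.isCohFormal_pullback (pC I) hf hG'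
    rw [isCohFormal_iff (algebraMap A R) wR] at hH
    obtain ⟨c⟩ := hc G'
    exact exists_coh_completion_of_extends' _ _ (preimage_puncturedOpen I 𝔞)
      ⟨G' ⋙ Scheme.Modules.pullback (pC I), hH, ⟨c ≪≫ Functor.isoWhiskerRight e (Scheme.Modules.pullback g)⟩⟩
  · rintro ⟨F', hF', ⟨e⟩⟩
    obtain ⟨H', hH', ⟨e'⟩⟩ := extends_of_completion' _ _ (preimage_puncturedOpen I 𝔞) hF' e
    rw [← isCohFormal_iff (algebraMap A R) wR] at hH'
    obtain ⟨G', hG', ⟨θ⟩⟩ := exists_preimage_sys I (pC I) hf h₀ hH'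
    obtain ⟨c⟩ := hc G'
    have hG₁ : Formal.IsCohFormal I (G' ⋙ Scheme.Modules.pullback U.ι) :=
      FormalSys.isCohFormal_pullback U.ι rfl hG'
    let r : G' ⋙ Scheme.Modules.pullback U.ι ≅ Algz.restrictSys U G' :=
      Functor.isoWhiskerLeft G' (Scheme.Modules.restrictFunctorIsoPullback U.ι).symm
    let ψ : (G' ⋙ Scheme.Modules.pullback U.ι) ⋙ Scheme.Modules.pullback g ≅ G ⋙ Scheme.Modules.pullback g :=
      Functor.isoWhiskerRight r (Scheme.Modules.pullback g) ≪≫ c.symm ≪≫
        Functor.isoWhiskerRight θ (Scheme.Modules.restrictFunctor U'.ι) ≪≫ e'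
    obtain ⟨φ, hφ⟩ := (whiskerRight_bijective I g hwg h₀U hG).2 ψ.hom
    obtain ⟨φ', hφ'⟩ := (whiskerRight_bijective I g hwg h₀U hG₁).2 ψ.inv
    have h1 : φ ≫ φ' = 𝟙 _ := (whiskerRight_bijective I g hwg h₀U hG₁).1 (by
      show Functor.whiskerRight _ _ = Functor.whiskerRight _ _
      rw [Functor.whiskerRight_comp, show Functor.whiskerRight φ _ = ψ.hom from hφ,
        show Functor.whiskerRight φ' _ = ψ.inv from hφ', ψ.hom_inv_id, Functor.whiskerRight_id'])
    have h2 : φ' ≫ φ = 𝟙 _ := (whiskerRight_bijective I g hwg h₀U hG).1 (by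
      show Functor.whiskerRight _ _ = Functor.whiskerRight _ _
      rw [Functor.whiskerRight_comp, show Functor.whiskerRight φ _ = ψ.hom from hφ,
        show Functor.whiskerRight φ' _ = ψ.inv from hφ', ψ.inv_hom_id, Functor.whiskerRight_id'])
    exact ⟨G', hG', ⟨r.symm ≪≫ ⟨φ, φ', h1, h2⟩⟩⟩

end Groth.Agent.FormalEqLib
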