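import Groth.Agent.FormalEqLib.AlgCompletion
import Groth.Agent.S0829
import Groth.Agent.S0851
import Groth.Agent.PullbackMod.Hom

/-!
# Invariance of extendability under maps with killed kernel and cokernel
-/

set_option autoImplicit false
set_option linter.style.haveILetI false
set_option maxHeartbeats 800000

universe u

open CategoryTheory CategoryTheory.Limits AlgebraicGeometry TopologicalSpace Opposite

noncomputable section

namespace Groth.Agent.FormalEqLib

section Basic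

variable {A : Type u} [CommRing A] {X : Scheme.{u}} [X.Over (Spec (CommRingCat.of A))]

theorem killedBy_of_iso {J : Ideal A} {M N : X.Modules} (e : M ≅ N) (h : Formal.KilledBy J M) : Formal.KilledBy J N :=
  fun a ha => by
    rw [← cancel_epi e.hom, ← FormalLib.smulMod_natural, h a ha, zero_comp, comp_zero]

theorem kerCoker_iso_comp {I : Ideal A} {F F' G : ℕᵒᵖ ⥤ X.Modules} (e : F' ≅ F) (α : F ⟶ G)
    (h : Formal2.KerCokerKilledByIPow I α) : Formal2.KerCokerKilledByIPow I (e.hom ≫ α) := by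
  obtain ⟨t, ht⟩ := h
  refine ⟨t, fun n => ⟨killedBy_of_iso ?_ (ht n).1, killedBy_of_iso ?_ (ht n).2⟩⟩
  · exact (kernelIsIsoComp (e.hom.app (op n)) (α.app (op n))).symm
  · exact (cokernelEpiComp (e.hom.app (op n)) (α.app (op n))).symm

theorem kerCoker_comp_iso {I : Ideal A} {F G G' : ℕᵒᵖ ⥤ X.Modules} (α : F ⟶ G) (e : G ≅ G')
    (h : Formal2.KerCokerKilledByIPow I α) : Formal2.KerCokerKilledByIPow I (α ≫ e.hom) := by
  obtain ⟨t, ht⟩ := h
  refine ⟨t, fun n => ⟨killedBy_of_iso ?_ (ht n).1, killedBy_of_iso ?_ (ht n).2⟩⟩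
  · exact (kernelCompMono (α.app (op n)) (e.hom.app (op n))).symm
  · exact (cokernelCompIsIso (α.app (op n)) (e.hom.app (op n))).symm

theorem kerCoker_pullback {I : Ideal A} {X' : Scheme.{u}} [X'.Over (Spec (CommRingCat.of A))]
    [AlgebraicGeometry.IsNoetherian X] [AlgebraicGeometry.IsNoetherian X'] (g : X' ⟶ X) [Flat g]
    (w : g ≫ (X ↘ Spec (CommRingCat.of A)) = X' ↘ Spec (CommRingCat.of A)) {F G : ℕᵒᵖ ⥤ X.Modules} (α : F ⟶ G)
    (h : Formal2.KerCokerKilledByIPow I α) :
    Formal2.KerCokerKilledByIPow I (Functor.whiskerRight α (Scheme.Modules.pullback g)) := by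
  obtain ⟨t, ht⟩ := h
  let L := Scheme.Modules.pullback g
  haveI : L.Additive := (Scheme.Modules.pullbackPushforwardAdjunction g).left_adjoint_additive
  haveI : PreservesColimitsOfSize.{0, 0} L :=
    (Scheme.Modules.pullbackPushforwardAdjunction g).leftAdjoint_preservesColimits
  haveI : L.PreservesMonomorphisms := ⟨fun {M N} φ hφ => PullbackMod.mono_map_pullback g φ⟩
  haveI := L.preservesHomology_of_preservesMonos_and_cokernels
  haveI := L.preservesFiniteLimits_of_preservesHomology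
  refine ⟨t, fun n => ⟨killedBy_of_iso (PreservesKernel.iso L (α.app (op n))) (killedBy_pullback g w (ht n).1),
    killedBy_of_iso (PreservesCokernel.iso L (α.app (op n))) (killedBy_pullback g w (ht n).2)⟩⟩

theorem kerCoker_change {B : Type u} [CommRing B] [X.Over (Spec (CommRingCat.of B))] (g : A →+* B)
    (w : (X ↘ Spec (CommRingCat.of B)) ≫ Spec.map (CommRingCat.ofHom g) = X ↘ Spec (CommRingCat.of A))
    {I : Ideal A} {F G : ℕᵒᵖ ⥤ X.Modules} (α : F ⟶ G) (h : Formal2.KerCokerKilledByIPow I α) :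
    Formal2.KerCokerKilledByIPow (I.map g) α := by
  obtain ⟨t, ht⟩ := h
  refine ⟨t, fun n => ⟨?_, ?_⟩⟩
  · rw [← Ideal.map_pow]; exact (killedBy_iff_map g w _ _).1 (ht n).1
  · rw [← Ideal.map_pow]; exact (killedBy_iff_map g w _ _).1 (ht n).2

end Basic

variable {A : Type u} [CommRing A] [IsNoetherianRing A] (I 𝔞 : Ideal A)

theorem extends_iff_of_kerCoker (G G' : ℕᵒᵖ ⥤ (LocCoh.puncturedOpen A 𝔞 : Scheme.{u}).Modules)
    (hG : Formal.IsCohFormal I G) (hG' : Formal.IsCohFormal I G') (α : G ⟶ G')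
    (hα : Formal2.KerCokerKilledByIPow I α) :
    @Algz.Extends A _ (Spec (CommRingCat.of A)) ⟨𝟙 (Spec (CommRingCat.of A))⟩ I (LocCoh.puncturedOpen A 𝔞) G ↔
      @Algz.Extends A _ (Spec (CommRingCat.of A)) ⟨𝟙 (Spec (CommRingCat.of A))⟩ I (LocCoh.puncturedOpen A 𝔞) G' := by
  rw [extends_iff I 𝔞 G hG, extends_iff I 𝔞 G' hG']
  let U := LocCoh.puncturedOpen A 𝔞
  let U' := pC I ⁻¹ᵁ U
  let g : (U' : Scheme.{u}) ⟶ U := pC I ∣_ U
  haveI : IsNoetherianRing (AC I) := RegLocal.isNoetherianRing_completion _ _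
  haveI : IsNoetherianRing (CommRingCat.of A : Type u) := inferInstanceAs (IsNoetherianRing A)
  haveI : IsNoetherianRing (CommRingCat.of (AC I) : Type u) := inferInstanceAs (IsNoetherianRing (AC I))
  haveI : AlgebraicGeometry.IsNoetherian (Spec (CommRingCat.of A)) := inferInstance
  haveI : AlgebraicGeometry.IsNoetherian (Spec (CommRingCat.of (AC I))) := inferInstance
  haveI : AlgebraicGeometry.IsNoetherian (U : Scheme.{u}) := by
    haveI : IsLocallyNoetherian (U : Scheme.{u}) := isLocallyNoetherian_of_isOpenImmersion U.ι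
    haveI : CompactSpace (U : Scheme.{u}) := isCompact_iff_compactSpace.1 (TopologicalSpace.NoetherianSpace.isCompact _)
    exact {}
  haveI : AlgebraicGeometry.IsNoetherian (U' : Scheme.{u}) := by
    haveI : IsLocallyNoetherian (U' : Scheme.{u}) := isLocallyNoetherian_of_isOpenImmersion U'.ι
    haveI : CompactSpace (U' : Scheme.{u}) := isCompact_iff_compactSpace.1 (TopologicalSpace.NoetherianSpace.isCompact _)
    exact {}
  letI oA : (Spec (CommRingCat.of A)).Over (Spec (CommRingCat.of A)) := ⟨𝟙 _⟩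
  letI oR : (Spec (CommRingCat.of (AC I))).Over (Spec (CommRingCat.of (AC I))) := ⟨𝟙 _⟩
  letI oRA : (Spec (CommRingCat.of (AC I))).Over (Spec (CommRingCat.of A)) := ⟨pC I⟩
  letI oU' : (U' : Scheme.{u}).Over (Spec (CommRingCat.of A)) := ⟨U'.ι ≫ pC I⟩
  haveI : Flat (pC I) := by
    rw [HasRingHomProperty.Spec_iff (P := @Flat)]
    exact RingHom.flat_algebraMap_iff.2 (AdicCompletion.flat_of_isNoetherian I)
  haveI : Flat g := MorphismProperty.of_isPullback (isPullback_morphismRestrict (pC I) U).flip ‹Flat (pC I)›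
  have hwg : g ≫ (U.toScheme ↘ Spec (CommRingCat.of A)) = (U' : Scheme.{u}) ↘ Spec (CommRingCat.of A) := by
    show g ≫ U.ι ≫ 𝟙 _ = U'.ι ≫ pC I
    rw [Category.comp_id, morphismRestrict_ι]
  have wU : ((U' : Scheme.{u}) ↘ Spec (CommRingCat.of (AC I))) ≫ Spec.map (CommRingCat.ofHom (algebraMap A (AC I))) =
      (U' : Scheme.{u}) ↘ Spec (CommRingCat.of A) := by
    show (U'.ι ≫ 𝟙 _) ≫ pC I = U'.ι ≫ pC I
    rw [Category.comp_id]
  have hH : ∀ {H : ℕᵒᵖ ⥤ (U : Scheme.{u}).Modules}, Formal.IsCohFormal I H →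
      Formal.IsCohFormal (I.map (algebraMap A (AC I))) (H ⋙ Scheme.Modules.pullback g) := fun hH =>
    (isCohFormal_iff (algebraMap A (AC I)) wU I _).1 (FormalSys.isCohFormal_pullback g hwg hH)
  have hβ : Formal2.KerCokerKilledByIPow (I.map (algebraMap A (AC I)))
      (Functor.whiskerRight α (Scheme.Modules.pullback g)) :=
    kerCoker_change (algebraMap A (AC I)) wU _ (kerCoker_pullback g hwg α hα)
  constructor
  · rintro ⟨F, hF, ⟨e⟩⟩
    obtain ⟨F', _, β, hF', -, -⟩ := Groth.Agent.S0851.result (AC I) _ (U' : Scheme.{u}) F hF _ (hH hG')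
      (e.hom ≫ Functor.whiskerRight α (Scheme.Modules.pullback g)) (kerCoker_iso_comp e _ hβ)
    exact ⟨F', hF', ⟨β⟩⟩
  · rintro ⟨F, hF, ⟨e⟩⟩
    obtain ⟨F', _, β, hF', -, -⟩ := Groth.Agent.S0829.result (AC I) _ (U' : Scheme.{u}) F hF _ (hH hG)
      (Functor.whiskerRight α (Scheme.Modules.pullback g) ≫ e.inv) (kerCoker_comp_iso _ e.symm hβ)
    exact ⟨F', hF', ⟨β.symm⟩⟩

end Groth.Agent.FormalEqLib
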