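import Groth.Agent.FormalEqLib.Thick
import Groth.Agent.PullbackMod.Props

/-!
# Pullback along a flat morphism inducing an isomorphism of closed fibres, on killed modules
-/

set_option autoImplicit false
set_option linter.style.haveILetI false

universe u

open CategoryTheory CategoryTheory.Limits AlgebraicGeometry TopologicalSpace Opposite

noncomputable section

namespace Groth.Agent.FormalEqLib

/-- Pullback along an isomorphism is an equivalence. -/
theorem isEquivalence_pullback {X Y : Scheme.{u}} (g : X ⟶ Y) [IsIso g] :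
    (Scheme.Modules.pullback g).IsEquivalence := by
  haveI : (Scheme.Modules.pushforward g).IsEquivalence :=
    (CategoryTheory.Equivalence.mk (Scheme.Modules.pushforward g) (Scheme.Modules.pushforward (inv g))
      ((Scheme.Modules.pushforwardId X).symm ≪≫
        (Scheme.Modules.pushforwardCongr (IsIso.hom_inv_id g)).symm ≪≫
        (Scheme.Modules.pushforwardComp g (inv g)).symm)
      ((Scheme.Modules.pushforwardComp (inv g) g) ≪≫
        Scheme.Modules.pushforwardCongr (IsIso.inv_hom_id g) ≪≫
        Scheme.Modules.pushforwardId Y)).isEquivalence_functor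
  exact (Scheme.Modules.pullbackPushforwardAdjunction g).isEquivalence_left_of_isEquivalence_right

variable {A : Type u} [CommRing A] (I : Ideal A) {X X' : Scheme.{u}} [X.Over (Spec (CommRingCat.of A))]
  [X'.Over (Spec (CommRingCat.of A))] [AlgebraicGeometry.IsNoetherian X] [AlgebraicGeometry.IsNoetherian X']

theorem bijective_pullback_it {M N : X.Modules} [Coh.IsQCoh N] {n : ℕ} (hN : Formal.KilledBy (I ^ (n + 1)) N) :
    Function.Bijective (fun a : M ⟶ N => (Scheme.Modules.pullback (it I X n)).map a) := by
  let adj := Scheme.Modules.pullbackPushforwardAdjunction (it I X n)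
  haveI := isIso_unit_of_killedBy I (n := n) hN
  have h : ∀ a : M ⟶ N, adj.homEquiv _ _ ((Scheme.Modules.pullback (it I X n)).map a) = a ≫ adj.unit.app N :=
    fun a => (adj.homEquiv_unit _ _ _).trans (adj.unit.naturality a).symm
  refine ⟨fun a b e => ?_, fun c => ⟨adj.homEquiv _ _ c ≫ inv (adj.unit.app N), ?_⟩⟩
  · have e' := congrArg (adj.homEquiv _ _) e
    rw [h, h] at e'
    exact (cancel_mono _).1 e'
  · refine (adj.homEquiv _ _).injective ?_
    rw [h, Category.assoc, IsIso.inv_hom_id, Category.comp_id]

variable (f : X' ⟶ X) (hf : f ≫ (X ↘ Spec (CommRingCat.of A)) = X' ↘ Spec (CommRingCat.of A))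

include hf in
theorem killedBy_pullback {M : X.Modules} {J : Ideal A} (h : Formal.KilledBy J M) :
    Formal.KilledBy J ((Scheme.Modules.pullback f).obj M) := fun a ha => by
  rw [← FormalSys.pullback_smulMod f hf, h a ha]
  exact Functor.map_zero _ _ _

/-- The square on pullbacks. -/
def sqIso (n : ℕ) : Scheme.Modules.pullback f ⋙ Scheme.Modules.pullback (it I X' n) ≅
    Scheme.Modules.pullback (it I X n) ⋙ Scheme.Modules.pullback (ft I f hf n) :=
  Scheme.Modules.pullbackComp (it I X' n) f ≪≫ Scheme.Modules.pullbackCongr (ft_it I f hf n).symm ≪≫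
    (Scheme.Modules.pullbackComp (ft I f hf n) (it I X n)).symm

variable [Flat f]

include hf in
theorem bijective_pullback (h₀ : IsIso (ft I f hf 0)) {M N : X.Modules} (hN : Coh.IsCoh N) {n : ℕ}
    (hNk : Formal.KilledBy (I ^ (n + 1)) N) :
    Function.Bijective (fun a : M ⟶ N => (Scheme.Modules.pullback f).map a) := by
  haveI := isIso_ft I f hf h₀ n
  haveI := isEquivalence_pullback (ft I f hf n)
  haveI := hN.1
  haveI := (PullbackMod.isCoh_pullback f _ hN).1
  have b1 := bijective_pullback_it I (X := X') (M := (Scheme.Modules.pullback f).obj M)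
    (killedBy_pullback f hf hNk)
  have b2 := bijective_pullback_it I (M := M) hNk
  let c := sqIso I f hf n
  have b : Function.Bijective (fun a : M ⟶ N =>
      (Scheme.Modules.pullback (it I X' n)).map ((Scheme.Modules.pullback f).map a)) := by
    have e : (fun a : M ⟶ N => (Scheme.Modules.pullback (it I X' n)).map ((Scheme.Modules.pullback f).map a)) =
        (fun g => c.hom.app M ≫ g ≫ c.inv.app N) ∘
          (fun a => (Scheme.Modules.pullback (ft I f hf n)).map ((Scheme.Modules.pullback (it I X n)).map a)) :=
      funext fun a => (NatIso.naturality_2 c a).symm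
    rw [e]
    refine Function.Bijective.comp ?_ ((Functor.FullyFaithful.map_bijective (Functor.FullyFaithful.ofFullyFaithful _) _ _).comp b2)
    refine ⟨fun a a' h => ?_, fun g => ⟨c.inv.app M ≫ g ≫ c.hom.app N, ?_⟩⟩
    · simpa using h
    · simp
  exact ⟨fun a a' h => b.1 (congrArg (Scheme.Modules.pullback (it I X' n)).map h),
    fun g => by
      obtain ⟨a, ha⟩ := b.2 ((Scheme.Modules.pullback (it I X' n)).map g)
      exact ⟨a, b1.1 ha⟩⟩

include hf in
theorem exists_preimage (h₀ : IsIso (ft I f hf 0)) {M' : X'.Modules} (hM' : Coh.IsCoh M') {n : ℕ}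
    (hk : Formal.KilledBy (I ^ (n + 1)) M') :
    ∃ M : X.Modules, Coh.IsCoh M ∧ Formal.KilledBy (I ^ (n + 1)) M ∧
      Nonempty ((Scheme.Modules.pullback f).obj M ≅ M') := by
  haveI := isIso_ft I f hf h₀ n
  let φ := ft I f hf n
  let P := (Scheme.Modules.pullback (it I X' n)).obj M'
  let Q := (Scheme.Modules.pullback (inv φ)).obj P
  have hP : Coh.IsCoh P := PullbackMod.isCoh_pullback _ _ hM'
  have hQ : Coh.IsCoh Q := PullbackMod.isCoh_pullback _ _ hP
  haveI : IsLocallyNoetherian (Xt I X n) := LocallyOfFiniteType.isLocallyNoetherian (it I X n)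
  let M := (Scheme.Modules.pushforward (it I X n)).obj Q
  have hM : Coh.IsCoh M := DevLib.isCoh_pushforward_closed (it I X n) hQ
  have hMk : Formal.KilledBy (I ^ (n + 1)) M := killedBy_pushforward I Q
  refine ⟨M, hM, hMk, ?_⟩
  haveI := hM'.1
  haveI := (PullbackMod.isCoh_pullback f _ hM).1
  haveI := isIso_unit_of_killedBy I (X := X') (n := n) hk
  haveI := isIso_unit_of_killedBy I (X := X') (n := n) (killedBy_pullback f hf hMk)
  haveI := DCohLib.isIso_counit_closedImmersion (it I X n) Q
  let e : (Scheme.Modules.pullback (it I X' n)).obj ((Scheme.Modules.pullback f).obj M) ≅ P :=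
    (sqIso I f hf n).app M ≪≫
      (Scheme.Modules.pullback φ).mapIso
        (asIso ((Scheme.Modules.pullbackPushforwardAdjunction (it I X n)).counit.app Q)) ≪≫
      (Scheme.Modules.pullbackComp φ (inv φ) ≪≫ Scheme.Modules.pullbackCongr (IsIso.hom_inv_id φ) ≪≫
        Scheme.Modules.pullbackId _).app P
  exact ⟨asIso ((Scheme.Modules.pullbackPushforwardAdjunction (it I X' n)).unit.app _) ≪≫
    (Scheme.Modules.pushforward (it I X' n)).mapIso e ≪≫
    (asIso ((Scheme.Modules.pullbackPushforwardAdjunction (it I X' n)).unit.app M')).symm⟩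

end Groth.Agent.FormalEqLib
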