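import Groth.Agent.FormalEqLib.Killed

/-!
# Equivalence of categories of coherent formal modules
-/

set_option autoImplicit false
set_option linter.style.haveILetI false

universe u

open CategoryTheory CategoryTheory.Limits AlgebraicGeometry TopologicalSpace Opposite

noncomputable section

namespace Groth.Agent.FormalEqLib

variable {A : Type u} [CommRing A] (I : Ideal A) {X X' : Scheme.{u}} [X.Over (Spec (CommRingCat.of A))]
  [X'.Over (Spec (CommRingCat.of A))] [AlgebraicGeometry.IsNoetherian X] [AlgebraicGeometry.IsNoetherian X']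
  (f : X' ⟶ X) (hf : f ≫ (X ↘ Spec (CommRingCat.of A)) = X' ↘ Spec (CommRingCat.of A)) [Flat f]

include hf in
theorem whiskerRight_bijective (h₀ : IsIso (ft I f hf 0)) {G₁ G₂ : ℕᵒᵖ ⥤ X.Modules}
    (hG₂ : Formal.IsCohFormal I G₂) :
    Function.Bijective (fun φ : G₁ ⟶ G₂ => Functor.whiskerRight φ (Scheme.Modules.pullback f)) := by
  have b := fun (x : ℕᵒᵖ) (M : X.Modules) =>
    bijective_pullback I f hf h₀ (M := M) (N := G₂.obj x) (hG₂.1 x.unop) (n := x.unop) (hG₂.2.1 x.unop)
  refine ⟨fun φ φ' h => NatTrans.ext (funext fun x => (b x (G₁.obj x)).1 (congr_app h x)), fun ψ => ?_⟩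
  choose a ha using fun x => (b x (G₁.obj x)).2 (ψ.app x)
  refine ⟨{ app := a, naturality := fun x y g => (b y (G₁.obj x)).1 ?_ }, NatTrans.ext (funext ha)⟩
  show (Scheme.Modules.pullback f).map _ = (Scheme.Modules.pullback f).map _
  rw [Functor.map_comp, Functor.map_comp, show (Scheme.Modules.pullback f).map (a x) = ψ.app x from ha x,
    show (Scheme.Modules.pullback f).map (a y) = ψ.app y from ha y]
  exact ψ.naturality g

include hf in
theorem exists_preimage_sys (h₀ : IsIso (ft I f hf 0)) {G' : ℕᵒᵖ ⥤ X'.Modules} (hG' : Formal.IsCohFormal I G') :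
    ∃ G : ℕᵒᵖ ⥤ X.Modules, Formal.IsCohFormal I G ∧ Nonempty (G ⋙ Scheme.Modules.pullback f ≅ G') := by
  choose M hM hMk e using fun n => exists_preimage I f hf h₀ (hG'.1 n) (n := n) (hG'.2.1 n)
  let E := fun n => (e n).some
  choose g hg using fun n => (bijective_pullback I f hf h₀ (M := M (n + 1)) (hM n) (n := n) (hMk n)).2
    ((E (n + 1)).hom ≫ G'.map (homOfLE (Nat.le_succ n)).op ≫ (E n).inv)
  let G : ℕᵒᵖ ⥤ X.Modules := Functor.ofOpSequence (X := M) g
  have hGmap : ∀ n, G.map (homOfLE (Nat.le_succ n)).op = g n := fun n => Functor.ofOpSequence_map_homOfLE_succ g n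
  have hsq : ∀ n, (Scheme.Modules.pullback f).map (g n) ≫ (E n).hom =
      (E (n + 1)).hom ≫ G'.map (homOfLE (Nat.le_succ n)).op := fun n => by
    rw [show (Scheme.Modules.pullback f).map (g n) = _ from hg n]
    simp only [Category.assoc, Iso.inv_hom_id, Category.comp_id]
  refine ⟨G, ⟨hM, hMk, fun n => ?_⟩, ?_⟩
  · let J := I ^ (n + 1)
    let F := Scheme.Modules.pullback f
    haveI : F.Additive := (Scheme.Modules.pullbackPushforwardAdjunction f).left_adjoint_additive
    obtain ⟨w', hiso⟩ := hG'.2.2 n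
    haveI := hiso
    let g' := G'.map (homOfLE (Nat.le_succ n)).op
    haveI hepi : Epi g' := by
      rw [show g' = cokernel.π _ ≫ cokernel.desc _ g' w' from (cokernel.π_desc _ _ _).symm]
      exact epi_comp' coequalizer.π_epi (IsIso.epi_of_iso _)
    have w : Formal.smulFamily J (M (n + 1)) ≫ g n = 0 := by
      refine Sigma.hom_ext _ _ fun a => ?_
      rw [comp_zero, ← Category.assoc, Formal.smulFamily, Sigma.ι_desc, FormalLib.smulMod_natural,
        hMk n a a.2, comp_zero]
    show ∃ h : Formal.smulFamily J (M (n + 1)) ≫ G.map (homOfLE (Nat.le_succ n)).op = 0, IsIso (cokernel.desc _ _ h)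
    rw [hGmap]
    refine ⟨w, ?_⟩
    let C := cokernel (Formal.smulFamily J (M (n + 1)))
    have hC : Coh.IsCoh C := FormalSys.isCoh_modPow (hM (n + 1)) I (n + 1)
    have hCk : Formal.KilledBy J C := fun a ha => by
      refine coequalizer.hom_ext ?_
      show cokernel.π _ ≫ Formal.smulMod A C a = cokernel.π _ ≫ 0
      rw [← FormalLib.smulMod_natural, comp_zero]
      exact FormalSys.smulMod_comp_eq_zero (cokernel.condition _) ⟨a, ha⟩
    -- a map back
    let t := (E (n + 1)).inv ≫ F.map (cokernel.π (Formal.smulFamily J (M (n + 1))))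
    have ht : Formal.smulFamily J (G'.obj (op (n + 1))) ≫ t = 0 := by
      refine Sigma.hom_ext _ _ fun a => ?_
      refine (Category.assoc _ _ _).symm.trans ((congrArg (· ≫ t) (Sigma.ι_desc _ _)).trans ?_)
      rw [FormalLib.smulMod_natural, killedBy_pullback f hf hCk a a.2, comp_zero, comp_zero]
    let h' := inv (cokernel.desc _ g' w') ≫ cokernel.desc _ t ht
    have hh' : g' ≫ h' = t := by
      conv_lhs => arg 1; rw [show g' = cokernel.π _ ≫ cokernel.desc _ g' w' from (cokernel.π_desc _ _ _).symm]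
      rw [Category.assoc, IsIso.hom_inv_id_assoc, cokernel.π_desc]
    obtain ⟨h, hh⟩ := (bijective_pullback I f hf h₀ (M := M n) hC (n := n) hCk).2 ((E n).hom ≫ h')
    have hgh : g n ≫ h = cokernel.π _ := by
      refine (bijective_pullback I f hf h₀ (M := M (n + 1)) hC (n := n) hCk).1 ?_
      show F.map (g n ≫ h) = F.map _
      rw [F.map_comp, show F.map h = _ from hh, ← Category.assoc, hsq, Category.assoc, hh', Iso.hom_inv_id_assoc]
    haveI : Epi (F.map (g n)) := by
      have e1 : F.map (g n) = (E (n + 1)).hom ≫ g' ≫ (E n).inv := hg n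
      rw [e1]
      infer_instance
    refine ⟨h, coequalizer.hom_ext ?_, ?_⟩
    · show cokernel.π _ ≫ cokernel.desc _ (g n) w ≫ h = cokernel.π _ ≫ 𝟙 _
      rw [cokernel.π_desc_assoc, hgh, Category.comp_id]
    · refine (bijective_pullback I f hf h₀ (M := M n) (hM n) (n := n) (hMk n)).1 ?_
      show F.map (h ≫ cokernel.desc _ (g n) w) = F.map (𝟙 (M n))
      rw [← cancel_epi (F.map (g n)), ← F.map_comp, ← F.map_comp, Category.comp_id, ← Category.assoc, hgh,
        cokernel.π_desc]
  · refine ⟨NatIso.ofComponents (fun x => E x.unop) ?_⟩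
    let α : G ⋙ Scheme.Modules.pullback f ⟶ G' := NatTrans.ofOpSequence (fun n => (E n).hom) fun n => by
      show (Scheme.Modules.pullback f).map (G.map (homOfLE (Nat.le_succ n)).op) ≫ _ = _
      rw [hGmap]
      exact hsq n
    exact fun {x y} g => α.naturality g

end Groth.Agent.FormalEqLib
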