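import Groth.Prelude.Def_Formal2
import Groth.Agent.PuncSecLib.ProIso
import Groth.Agent.FormalEqLib.ChangeBase
import Groth.Agent.FormalSysLib.Sections
import Groth.Agent.FormalSysLib.Small
import Groth.Agent.DVRFamilyLib.Basic

/-!
# Formal modules for ideals with the same zero locus
-/

set_option autoImplicit false
set_option linter.style.haveILetI false
set_option linter.unusedSectionVars false

universe u

open CategoryTheory CategoryTheory.Limits AlgebraicGeometry TopologicalSpace Opposite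
open Groth.Agent.CohBase Groth.Agent.ProjCoh Groth.Agent.QCohLib

noncomputable section

namespace Groth.Agent.FormalEqLib

set_option backward.isDefEq.respectTransparency false

variable {A : Type u} [CommRing A] {X : Scheme.{u}} [X.Over (Spec (CommRingCat.of A))]

theorem epi_modPowπ (I : Ideal A) (n : ℕ) (M : X.Modules) : Epi (Formal.modPowπ I n M) :=
  inferInstanceAs (Epi (cokernel.π _))

theorem killedBy_mono {J J' : Ideal A} (h : J' ≤ J) {M : X.Modules} (hM : Formal.KilledBy J M) : Formal.KilledBy J' M :=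
  fun a ha => hM a (h ha)

theorem killedBy_modPow (I : Ideal A) (n : ℕ) (M : X.Modules) : Formal.KilledBy (I ^ n) (Formal.modPow I n M) :=
  fun a ha => coequalizer.hom_ext (by
    show cokernel.π _ ≫ Formal.smulMod A _ a = cokernel.π _ ≫ 0
    rw [comp_zero, ← FormalLib.smulMod_natural]
    exact (smulFamily_comp_eq_zero_iff _).1 (cokernel.condition _) a ha)

theorem exists_desc_modPow {I : Ideal A} {n : ℕ} {M T : X.Modules} (t : M ⟶ T) (hT : Formal.KilledBy (I ^ n) T) :
    ∃ l, Formal.modPowπ I n M ≫ l = t :=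
  ⟨cokernel.desc _ t ((smulFamily_comp_eq_zero_iff _).2 fun a ha => by
    rw [FormalLib.smulMod_natural, hT a ha, comp_zero]), cokernel.π_desc _ _ _⟩

/-- A criterion for being a coherent formal module. -/
theorem isCohFormal_of_factor [AlgebraicGeometry.IsNoetherian X] {I : Ideal A} {G : ℕᵒᵖ ⥤ X.Modules} (hc : ∀ n, Coh.IsCoh (G.obj (op n)))
    (hk : ∀ n, Formal.KilledBy (I ^ (n + 1)) (G.obj (op n)))
    (he : ∀ n, Epi (G.map (homOfLE (Nat.le_succ n)).op))
    (hfac : ∀ n (T : X.Modules), Coh.IsCoh T → Formal.KilledBy (I ^ (n + 1)) T → ∀ t : G.obj (op (n + 1)) ⟶ T,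
      ∃ l, G.map (homOfLE (Nat.le_succ n)).op ≫ l = t) : Formal.IsCohFormal I G := by
  refine ⟨hc, hk, fun n => ?_⟩
  let g := G.map (homOfLE (Nat.le_succ n)).op
  have w : Formal.smulFamily (I ^ (n + 1)) (G.obj (op (n + 1))) ≫ g = 0 :=
    (smulFamily_comp_eq_zero_iff _).2 fun a ha => by rw [FormalLib.smulMod_natural, hk n a ha, comp_zero]
  obtain ⟨l, hl⟩ := hfac n _ (FormalSys.isCoh_modPow (hc (n + 1)) I (n + 1)) (killedBy_modPow I (n + 1) (G.obj (op (n + 1)))) (Formal.modPowπ I (n + 1) _)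
  haveI := he n
  refine ⟨w, l, coequalizer.hom_ext ?_, ?_⟩
  · show cokernel.π _ ≫ cokernel.desc _ g w ≫ l = cokernel.π _ ≫ 𝟙 _
    rw [cokernel.π_desc_assoc, Category.comp_id]
    exact hl
  · refine (cancel_epi g).1 ?_
    exact (Category.assoc _ _ _).symm.trans ((congrArg (· ≫ _) hl).trans
      ((cokernel.π_desc _ _ _).trans (Category.comp_id _).symm))

/-- Functoriality of the reduction. -/
def red (J : Ideal A) (n : ℕ) {M N : X.Modules} (φ : M ⟶ N) : Formal.modPow J n M ⟶ Formal.modPow J n N :=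
  (exists_desc_modPow (φ ≫ Formal.modPowπ J n N) (killedBy_modPow J n N)).choose

theorem π_red (J : Ideal A) (n : ℕ) {M N : X.Modules} (φ : M ⟶ N) :
    Formal.modPowπ J n M ≫ red J n φ = φ ≫ Formal.modPowπ J n N :=
  (exists_desc_modPow (φ ≫ Formal.modPowπ J n N) (killedBy_modPow J n N)).choose_spec

variable (J : Ideal A)

/-- The reductions of a system, as an object. -/
def redSys (G : ℕᵒᵖ ⥤ X.Modules) : ℕᵒᵖ ⥤ X.Modules :=
  Functor.ofOpSequence (X := fun n => Formal.modPow J (n + 1) (G.obj (op n)))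
    fun n => Formal.modPowTrans J (n + 1) (G.obj (op (n + 1))) ≫ red J (n + 1) (G.map (homOfLE (Nat.le_succ n)).op)

theorem π_redSys_succ (G : ℕᵒᵖ ⥤ X.Modules) (n : ℕ) :
    Formal.modPowπ J (n + 1 + 1) (G.obj (op (n + 1))) ≫ (redSys J G).map (homOfLE (Nat.le_succ n)).op =
      G.map (homOfLE (Nat.le_succ n)).op ≫ Formal.modPowπ J (n + 1) (G.obj (op n)) := by
  unfold redSys
  rw [Functor.ofOpSequence_map_homOfLE_succ]
  refine (Category.assoc _ _ _).symm.trans ((congrArg (· ≫ _) (Formal.modPowπ_trans J (n + 1) _)).trans ?_)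
  exact π_red J (n + 1) _

/-- The projection to the reductions. -/
def πSys (G : ℕᵒᵖ ⥤ X.Modules) : G ⟶ redSys J G :=
  NatTrans.ofOpSequence (fun n => Formal.modPowπ J (n + 1) (G.obj (op n))) fun n => (π_redSys_succ J G n).symm

theorem epi_πSys (G : ℕᵒᵖ ⥤ X.Modules) (x : ℕᵒᵖ) : Epi ((πSys J G).app x) := epi_modPowπ J (x.unop + 1) _

theorem killedBy_redSys (G : ℕᵒᵖ ⥤ X.Modules) (n : ℕ) : Formal.KilledBy (J ^ (n + 1)) ((redSys J G).obj (op n)) :=
  killedBy_modPow J (n + 1) _

theorem exists_desc_redSys (G : ℕᵒᵖ ⥤ X.Modules) (n : ℕ) {T : X.Modules} (hT : Formal.KilledBy (J ^ (n + 1)) T)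
    (t : G.obj (op n) ⟶ T) : ∃ l, (πSys J G).app (op n) ≫ l = t := exists_desc_modPow t hT

/-- The reduction on morphisms. -/
def redMap {G G' : ℕᵒᵖ ⥤ X.Modules} (φ : G ⟶ G') : redSys J G ⟶ redSys J G' where
  app x := red J (x.unop + 1) (φ.app x)
  naturality x y g := by
    have e : ∀ (H H' : ℕᵒᵖ ⥤ X.Modules) (ψ : H ⟶ H') (z : ℕᵒᵖ),
        (πSys J H).app z ≫ red J (z.unop + 1) (ψ.app z) = ψ.app z ≫ (πSys J H').app z := fun H H' ψ z => π_red J _ _
    haveI := epi_πSys J G x
    refine (cancel_epi ((πSys J G).app x)).1 ?_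
    rw [← Category.assoc, ← (πSys J G).naturality, Category.assoc, e, ← Category.assoc, φ.naturality, Category.assoc,
      (πSys J G').naturality, ← Category.assoc ((πSys J G).app x), e, Category.assoc]

theorem π_redMap {G G' : ℕᵒᵖ ⥤ X.Modules} (φ : G ⟶ G') : πSys J G ≫ redMap J φ = φ ≫ πSys J G' :=
  NatTrans.ext (funext fun _ => π_red J _ _)

variable {I : Ideal A}

theorem isCohFormal_redSys [AlgebraicGeometry.IsNoetherian X] (hIJ : I ≤ J) {G : ℕᵒᵖ ⥤ X.Modules}
    (hG : Formal.IsCohFormal I G) : Formal.IsCohFormal J (redSys J G) := by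
  have hepi : ∀ n, Epi (G.map (homOfLE (Nat.le_succ n)).op) := fun n =>
    PuncSecLib.epi_tr_of_isCohFormal hG n (n + 1) (Nat.le_succ n)
  refine isCohFormal_of_factor (fun n => FormalSys.isCoh_modPow (hG.1 n) J (n + 1)) (killedBy_redSys J G)
    (fun n => ?_) fun n T _ hT t => ?_
  · haveI := hepi n
    haveI := epi_πSys J G (op n)
    exact epi_of_epi_fac (f := (πSys J G).app (op (n + 1)))
      (h := G.map (homOfLE (Nat.le_succ n)).op ≫ (πSys J G).app (op n)) ((πSys J G).naturality _).symm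
  · obtain ⟨b, hb⟩ := PuncSecLib.exists_factor_killed hG n (n + 1) (Nat.le_succ n)
      (killedBy_mono (Ideal.pow_right_mono hIJ _) hT) ((πSys J G).app (op (n + 1)) ≫ t)
    obtain ⟨l, hl⟩ := exists_desc_redSys J G n hT b
    haveI := epi_πSys J G (op (n + 1))
    refine ⟨l, (cancel_epi ((πSys J G).app (op (n + 1)))).1 ?_⟩
    rw [← Category.assoc, ← (πSys J G).naturality, Category.assoc, hl]
    exact hb

/-- The functor of reductions. -/
def redFun [AlgebraicGeometry.IsNoetherian X] (hIJ : I ≤ J) :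
    Formal2.CohFormalCat I X ⥤ Formal2.CohFormalCat J X :=
  ObjectProperty.lift _
    { obj := fun G => redSys J G.obj
      map := fun φ => redMap J φ.hom
      map_id := fun G => NatTrans.ext (funext fun x => by
        haveI := epi_πSys J G.obj x
        refine (cancel_epi ((πSys J G.obj).app x)).1 ?_
        exact (π_red J _ _).trans ((Category.id_comp _).trans (Category.comp_id _).symm))
      map_comp := fun {G G' G''} φ ψ => NatTrans.ext (funext fun x => by
        haveI := epi_πSys J G.obj x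
        refine (cancel_epi ((πSys J G.obj).app x)).1 ?_
        refine (π_red J _ _).trans (Eq.symm ?_)
        refine (Category.assoc _ _ _).symm.trans ((congrArg (· ≫ _) (π_red J _ (φ.hom.app x))).trans ?_)
        exact (Category.assoc _ _ _).trans ((congrArg (φ.hom.app x ≫ ·) (π_red J _ (ψ.hom.app x))).trans
          (Category.assoc _ _ _).symm)) }
    fun G => isCohFormal_redSys J hIJ G.2

theorem isEquivalence_redFun [AlgebraicGeometry.IsNoetherian X] (hIJ : I ≤ J) (c : ℕ) (hc0 : 0 < c)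
    (hc : ∀ (n : ℕ) (M : X.Modules), Coh.IsCoh M → Formal.KilledBy (I ^ (n + 1)) M →
      Formal.KilledBy (J ^ (c * (n + 1))) M) :
    (redFun (X := X) J hIJ).IsEquivalence := by
  let N : ℕ → ℕ := fun n => c * (n + 1)
  have hnN : ∀ n, n ≤ N n := fun n => (Nat.le_succ n).trans (Nat.le_mul_of_pos_left _ hc0)
  have hNmono : ∀ {m n}, m ≤ n → N m ≤ N n := fun h => Nat.mul_le_mul_left c (Nat.succ_le_succ h)
  have hkillN : ∀ (n : ℕ) {T : X.Modules}, Coh.IsCoh T → Formal.KilledBy (I ^ (n + 1)) T →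
      Formal.KilledBy (J ^ (N n + 1)) T :=
    fun n T hcT hT => killedBy_mono (Ideal.pow_le_pow_right (Nat.le_succ _)) (hc n T hcT hT)
  have hq : ∀ (G : Formal2.CohFormalCat I X) (n : ℕ), ∃ q : (redSys J G.obj).obj (op (N n)) ⟶ G.obj.obj (op n),
      (πSys J G.obj).app (op (N n)) ≫ q = G.obj.map (homOfLE (hnN n)).op := fun G n =>
    exists_desc_redSys J G.obj (N n) (hkillN n (G.2.1 n) (G.2.2.1 n)) _
  choose q hq using hq
  haveI : (redFun (X := X) J hIJ).Faithful := ⟨fun {G G'} φ ψ h => by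
    refine ObjectProperty.hom_ext _ (NatTrans.ext (funext fun x => ?_))
    have hx : ∀ (χ : G ⟶ G'), G.obj.map (homOfLE (hnN x.unop)).op ≫ χ.hom.app x =
        (πSys J G.obj).app (op (N x.unop)) ≫ (redMap J χ.hom).app (op (N x.unop)) ≫ q G' x.unop := fun χ => by
      rw [← Category.assoc, show (πSys J G.obj).app (op (N x.unop)) ≫ (redMap J χ.hom).app (op (N x.unop)) =
        χ.hom.app (op (N x.unop)) ≫ (πSys J G'.obj).app (op (N x.unop)) from π_red J _ _, Category.assoc, hq]
      exact χ.hom.naturality _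
    haveI := PuncSecLib.epi_tr_of_isCohFormal G.2 x.unop (N x.unop) (hnN _)
    refine (cancel_epi (G.obj.map (homOfLE (hnN x.unop)).op)).1 ?_
    rw [hx φ, hx ψ, show redMap J φ.hom = redMap J ψ.hom from congrArg (fun z => z.hom) h]⟩
  haveI : (redFun (X := X) J hIJ).Full := ⟨fun {G G'} ψ => by
    choose a ha using fun n => PuncSecLib.exists_factor_killed G.2 n (N n) (hnN n) (G'.2.2.1 n)
      ((πSys J G.obj).app (op (N n)) ≫ ψ.hom.app (op (N n)) ≫ q G' n)
    have key : ∀ {n k : ℕ} (h : n ≤ k), G.obj.map (homOfLE ((hnN n).trans (hNmono h))).op ≫ a n =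
        (πSys J G.obj).app (op (N k)) ≫ ψ.hom.app (op (N k)) ≫ q G' k ≫ G'.obj.map (homOfLE h).op := by
      intro n k h
      rw [show (homOfLE ((hnN n).trans (hNmono h))).op = (homOfLE (hNmono h)).op ≫ (homOfLE (hnN n)).op from rfl,
        G.obj.map_comp, Category.assoc, ha, ← Category.assoc, (πSys J G.obj).naturality, Category.assoc,
        ← Category.assoc ((redSys J G.obj).map _), show (redSys J G.obj).map (homOfLE (hNmono h)).op ≫
          ψ.hom.app (op (N n)) = ψ.hom.app (op (N k)) ≫ (redSys J G'.obj).map (homOfLE (hNmono h)).op from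
            ψ.hom.naturality _, Category.assoc]
      refine congrArg (fun z => (πSys J G.obj).app (op (N k)) ≫ ψ.hom.app (op (N k)) ≫ z) ?_
      haveI := epi_πSys J G'.obj (op (N k))
      refine (cancel_epi ((πSys J G'.obj).app (op (N k)))).1 ?_
      rw [← Category.assoc, ← Category.assoc, ← (πSys J G'.obj).naturality, hq, Category.assoc, hq,
        ← G'.obj.map_comp, ← G'.obj.map_comp]
      rfl
    let φ : G.obj ⟶ G'.obj :=
      { app := fun x => a x.unop
        naturality := fun x y g => by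
          rw [Subsingleton.elim g (homOfLE (leOfHom g.unop)).op]
          haveI := PuncSecLib.epi_tr_of_isCohFormal G.2 x.unop (N x.unop) (hnN _)
          refine (cancel_epi (G.obj.map (homOfLE (hnN x.unop)).op)).1 ?_
          rw [← Category.assoc, ← G.obj.map_comp, ← Category.assoc, ha, Category.assoc, Category.assoc]
          exact key (leOfHom g.unop) }
    refine ⟨ObjectProperty.homMk φ, ObjectProperty.hom_ext _ (NatTrans.ext (funext fun x => ?_))⟩
    haveI := epi_πSys J G.obj x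
    refine (cancel_epi ((πSys J G.obj).app x)).1 ?_
    refine (π_red J _ _).trans ?_
    haveI := PuncSecLib.epi_tr_of_isCohFormal G.2 x.unop (N x.unop) (hnN _)
    refine (cancel_epi (G.obj.map (homOfLE (hnN x.unop)).op)).1 ?_
    show G.obj.map _ ≫ a x.unop ≫ (πSys J G'.obj).app x = _
    rw [← Category.assoc, ha, Category.assoc, Category.assoc, ← Category.assoc (G.obj.map _),
      show G.obj.map (homOfLE (hnN x.unop)).op ≫ (πSys J G.obj).app x =
        (πSys J G.obj).app (op (N x.unop)) ≫ (redSys J G.obj).map (homOfLE (hnN x.unop)).op from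
          (πSys J G.obj).naturality _, Category.assoc]
    refine congrArg ((πSys J G.obj).app (op (N x.unop)) ≫ ·) ?_
    rw [show (redSys J G.obj).map (homOfLE (hnN x.unop)).op ≫ ψ.hom.app x =
      ψ.hom.app (op (N x.unop)) ≫ (redSys J G'.obj).map (homOfLE (hnN x.unop)).op from ψ.hom.naturality _]
    refine congrArg (ψ.hom.app (op (N x.unop)) ≫ ·) ?_
    haveI := epi_πSys J G'.obj (op (N x.unop))
    refine (cancel_epi ((πSys J G'.obj).app (op (N x.unop)))).1 ?_
    rw [← Category.assoc, hq]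
    exact (πSys J G'.obj).naturality _⟩
  haveI : (redFun (X := X) J hIJ).EssSurj := ⟨fun H => by
    let G : ℕᵒᵖ ⥤ X.Modules := Functor.ofOpSequence (X := fun n => Formal.modPow I (n + 1) (H.obj.obj (op (N n))))
      fun n => Formal.modPowTrans I (n + 1) _ ≫ red I (n + 1) (H.obj.map (homOfLE (hNmono (Nat.le_succ n))).op)
    let p : ∀ n, H.obj.obj (op (N n)) ⟶ G.obj (op n) := fun n => Formal.modPowπ I (n + 1) _
    have hpe : ∀ n, Epi (p n) := fun n => epi_modPowπ I (n + 1) _
    have hp : ∀ n, p (n + 1) ≫ G.map (homOfLE (Nat.le_succ n)).op =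
        H.obj.map (homOfLE (hNmono (Nat.le_succ n))).op ≫ p n := fun n => by
      show _ ≫ (Functor.ofOpSequence _).map (homOfLE (Nat.le_add_right n 1)).op = _
      rw [Functor.ofOpSequence_map_homOfLE_succ]
      refine (Category.assoc _ _ _).symm.trans ((congrArg (· ≫ _) (Formal.modPowπ_trans I (n + 1) _)).trans ?_)
      exact π_red I (n + 1) _
    have hGk : ∀ n, Formal.KilledBy (I ^ (n + 1)) (G.obj (op n)) := fun n => killedBy_modPow I (n + 1) _
    have hG : Formal.IsCohFormal I G := by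
      refine isCohFormal_of_factor (fun n => FormalSys.isCoh_modPow (H.2.1 (N n)) I (n + 1)) hGk
        (fun n => ?_) fun n T hcT hT t => ?_
      · haveI := hpe n
        haveI := PuncSecLib.epi_tr_of_isCohFormal H.2 (N n) (N (n + 1)) (hNmono (Nat.le_succ n))
        exact epi_of_epi_fac (f := p (n + 1)) (h := H.obj.map (homOfLE (hNmono (Nat.le_succ n))).op ≫ p n) (hp n)
      · obtain ⟨b, hb⟩ := PuncSecLib.exists_factor_killed H.2 (N n) (N (n + 1)) (hNmono (Nat.le_succ n))
          (hkillN n hcT hT) (p (n + 1) ≫ t)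
        obtain ⟨l, hl⟩ := exists_desc_modPow b hT
        haveI := hpe (n + 1)
        refine ⟨l, (cancel_epi (p (n + 1))).1 ?_⟩
        rw [← Category.assoc, hp, Category.assoc, hl]
        exact hb
    refine ⟨⟨G, hG⟩, ⟨ObjectProperty.isoMk _ ?_⟩⟩
    choose u hu using fun n => exists_desc_modPow (I := I) (n := n + 1) (H.obj.map (homOfLE (hnN n)).op)
      (killedBy_mono (Ideal.pow_right_mono hIJ _) (H.2.2.1 n))
    choose v hv using fun n => exists_desc_redSys J G n (H.2.2.1 n) (u n)
    have hfull : ∀ n, p n ≫ (πSys J G).app (op n) ≫ v n = H.obj.map (homOfLE (hnN n)).op := fun n => by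
      rw [hv]; exact hu n
    have hiso : ∀ n, IsIso (v n) := fun n => by
      obtain ⟨w, hw⟩ := PuncSecLib.exists_factor_killed H.2 n (N n) (hnN n) (killedBy_redSys J G n)
        (p n ≫ (πSys J G).app (op n))
      haveI := hpe n
      haveI := epi_πSys J G (op n)
      haveI := PuncSecLib.epi_tr_of_isCohFormal H.2 n (N n) (hnN n)
      refine ⟨w, ?_, ?_⟩
      · refine (cancel_epi ((πSys J G).app (op n))).1 ((cancel_epi (p n)).1 ?_)
        rw [Category.comp_id, ← Category.assoc, ← Category.assoc, Category.assoc (p n), hfull, hw]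
      · refine (cancel_epi (H.obj.map (homOfLE (hnN n)).op)).1 ?_
        rw [← Category.assoc, hw, Category.assoc, hfull, Category.comp_id]
    let α : redSys J G ⟶ H.obj := NatTrans.ofOpSequence v fun n => by
      haveI := hpe (n + 1)
      haveI := epi_πSys J G (op (n + 1))
      refine (cancel_epi ((πSys J G).app (op (n + 1)))).1 ((cancel_epi (p (n + 1))).1 ?_)
      rw [← Category.assoc ((πSys J G).app _), ← (πSys J G).naturality, Category.assoc, ← Category.assoc (p (n + 1)),
        hp, Category.assoc, hfull, ← Category.assoc ((πSys J G).app _), ← Category.assoc (p (n + 1)), hfull,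
        ← H.obj.map_comp, ← H.obj.map_comp]
      rfl
    haveI : ∀ x, IsIso (α.app x) := fun x => hiso x.unop
    have hα := NatIso.isIso_of_isIso_app α
    exact @asIso _ _ _ _ α hα⟩
  exact { }

theorem exists_pow_killed [AlgebraicGeometry.IsNoetherian X] (I J : Ideal A)
    (h : (fun x : X => (X ↘ Spec (CommRingCat.of A)) x) ⁻¹' PrimeSpectrum.zeroLocus (I : Set A) ⊆
      (fun x : X => (X ↘ Spec (CommRingCat.of A)) x) ⁻¹' PrimeSpectrum.zeroLocus (J : Set A)) :
    ∃ c : ℕ, 0 < c ∧ ∀ (n : ℕ) (M : X.Modules), Coh.IsCoh M → Formal.KilledBy (I ^ (n + 1)) M →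
      Formal.KilledBy (J ^ (c * (n + 1))) M := by
  have hU : ∀ U : X.affineOpens, ∃ c : ℕ, FormalSys.JU (X := X) J U.1 ^ c ≤ FormalSys.JU (X := X) I U.1 := by
    intro U
    haveI : IsNoetherianRing Γ(X, U.1) := IsLocallyNoetherian.component_noetherian U
    refine Ideal.exists_pow_le_of_le_radical_of_fg ?_ (IsNoetherian.noetherian _)
    rw [Ideal.radical_eq_sInf, le_sInf_iff]
    rintro P ⟨hPI, hP⟩
    rw [Ideal.map_le_iff_le_comap] at hPI ⊢
    have key : ∀ K : Ideal A, K ≤ P.comap (φV (FormalLib.cst A X) U.1) ↔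
        (X ↘ Spec (CommRingCat.of A)) (U.2.fromSpec ⟨P, hP⟩) ∈ PrimeSpectrum.zeroLocus (K : Set A) := fun K => by
      rw [← Scheme.Hom.comp_apply, DVRFamilyLib.fromSpec_comp (X ↘ Spec (CommRingCat.of A)) U.2]
      exact Iff.rfl
    exact (key J).2 (h ((key I).1 hPI))
  choose c hc using hU
  obtain ⟨S, hS, hcov⟩ : ∃ S : Set X.affineOpens, S.Finite ∧ ∀ x : X, ∃ U ∈ S, x ∈ U.1 := by
    obtain ⟨S, hS⟩ := isCompact_univ.elim_finite_subcover (fun U : X.affineOpens => (U.1 : Set X)) (fun U => U.1.2)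
      (fun x _ => by
        obtain ⟨_, ⟨U, hU, rfl⟩, hxU, -⟩ := X.isBasis_affineOpens.exists_subset_of_mem_open (Set.mem_univ x) isOpen_univ
        exact Set.mem_iUnion.2 ⟨⟨U, hU⟩, hxU⟩)
    exact ⟨S, S.finite_toSet, fun x => by simpa using hS (Set.mem_univ x)⟩
  obtain ⟨m, hm⟩ := (hS.image c).bddAbove
  refine ⟨m + 1, Nat.succ_pos _, fun n M hcM hM a ha => ?_⟩
  haveI := hcM.1
  refine FormalSys.hom_ext_cover (fun U : S => U.1.1) (fun U => U.1.2) (fun x => ?_) fun U s => ?_
  · intro _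
    obtain ⟨V, hV, hx⟩ := hcov x
    exact Opens.mem_iSup.2 ⟨⟨V, hV⟩, hx⟩
  · show φV (FormalLib.cst A X) U.1.1 a • s = 0
    have h1 : φV (FormalLib.cst A X) U.1.1 a ∈ FormalSys.JU (X := X) I U.1.1 ^ (n + 1) := by
      have h2 := Ideal.mem_map_of_mem (φV (FormalLib.cst A X) U.1.1) ha
      rw [Ideal.map_pow, pow_mul] at h2
      exact Ideal.pow_right_mono ((Ideal.pow_le_pow_right ((hm ⟨U.1, U.2, rfl⟩).trans (Nat.le_succ m))).trans (hc U.1))
        (n + 1) h2
    exact (Submodule.mem_bot _).1 ((FormalSys.JU_pow_smul_eq_bot hM U.1.2).le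
      (Submodule.smul_mem_smul h1 (Submodule.mem_top (x := s))))

theorem nonempty_equiv [AlgebraicGeometry.IsNoetherian X] (I J : Ideal A)
    (hV : (fun x : X => (X ↘ Spec (CommRingCat.of A)) x) ⁻¹' PrimeSpectrum.zeroLocus (I : Set A) =
      (fun x : X => (X ↘ Spec (CommRingCat.of A)) x) ⁻¹' PrimeSpectrum.zeroLocus (J : Set A)) :
    Nonempty (Formal2.CohFormalCat I X ≌ Formal2.CohFormalCat J X) := by
  have hK : PrimeSpectrum.zeroLocus ((I ⊔ J : Ideal A) : Set A) =
      PrimeSpectrum.zeroLocus (I : Set A) ∩ PrimeSpectrum.zeroLocus (J : Set A) := PrimeSpectrum.zeroLocus_sup I J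
  obtain ⟨c, hc0, hc⟩ := exists_pow_killed (X := X) I (I ⊔ J) (by
    rw [hK, Set.preimage_inter, ← hV, Set.inter_self])
  obtain ⟨d, hd0, hd⟩ := exists_pow_killed (X := X) J (I ⊔ J) (by
    rw [hK, Set.preimage_inter, hV, Set.inter_self])
  haveI := isEquivalence_redFun (X := X) (I ⊔ J) (le_sup_left : I ≤ I ⊔ J) c hc0 hc
  haveI := isEquivalence_redFun (X := X) (I ⊔ J) (le_sup_right : J ≤ I ⊔ J) d hd0 hd
  exact ⟨(redFun (X := X) (I ⊔ J) (le_sup_left : I ≤ I ⊔ J)).asEquivalence.trans
    (redFun (X := X) (I ⊔ J) (le_sup_right : J ≤ I ⊔ J)).asEquivalence.symm⟩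

end Groth.Agent.FormalEqLib
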