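import Groth.Agent.FormalEqLib.ThickIso
import Groth.Agent.FormalSysLib.ClosedSub
import Groth.Agent.FormalSysLib.Small
import Groth.Agent.DCohLib.ClosedPush
import Groth.Agent.ClSubLib.Annihilator
import Groth.Agent.DevLib.Closed

/-!
# Thickenings of the closed fibre under a flat morphism
-/

set_option autoImplicit false
set_option linter.style.haveILetI false

universe u

open CategoryTheory CategoryTheory.Limits AlgebraicGeometry TopologicalSpace Opposite
open Groth.Agent.CohBase Groth.Agent.ProjCoh Groth.Agent.QCohLib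

noncomputable section

namespace Groth.Agent.FormalEqLib

variable {A : Type u} [CommRing A] (I : Ideal A) {X : Scheme.{u}} [X.Over (Spec (CommRingCat.of A))]

/-- The thickening of the closed fibre. -/
abbrev Xt (X : Scheme.{u}) [X.Over (Spec (CommRingCat.of A))] (n : ℕ) : Scheme.{u} :=
  pullback (X ↘ Spec (CommRingCat.of A)) (CohB1.specQuot I n)

/-- Its inclusion. -/
abbrev it (X : Scheme.{u}) [X.Over (Spec (CommRingCat.of A))] (n : ℕ) : Xt I X n ⟶ X :=
  pullback.fst (X ↘ Spec (CommRingCat.of A)) (CohB1.specQuot I n)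

instance isClosedImmersion_it (n : ℕ) : IsClosedImmersion (it I X n) := by
  haveI : IsClosedImmersion (CohB1.specQuot I n) :=
    IsClosedImmersion.spec_of_surjective _ Ideal.Quotient.mk_surjective
  infer_instance

theorem killedByIdeal_of_killedBy [AlgebraicGeometry.IsNoetherian X] {M : X.Modules} {n : ℕ} (h : Formal.KilledBy (I ^ (n + 1)) M) :
    ClSub.KilledByIdeal (it I X n).ker M := fun U a ha m => by
  have ha' : a ∈ FormalSys.JU (X := X) I U.1 ^ (n + 1) := by
    rw [← FormalSys.ker_thickι (X := X) I n U]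
    rw [Scheme.Hom.ker_apply] at ha
    exact ha
  exact (Submodule.mem_bot _).1 ((FormalSys.JU_pow_smul_eq_bot h U.2).le
    (Submodule.smul_mem_smul ha' (Submodule.mem_top (x := (show Γ(M, U.1) from m)))))

theorem range_it (n : ℕ) :
    Set.range (it I X n) = (fun x : X => (X ↘ Spec (CommRingCat.of A)) x) ⁻¹' PrimeSpectrum.zeroLocus (I : Set A) := by
  rw [Scheme.Pullback.range_fst]
  refine congrArg _ ?_
  show Set.range (PrimeSpectrum.comap (Ideal.Quotient.mk (I ^ (n + 1)))) = _
  rw [range_comap_of_surjective _ _ Ideal.Quotient.mk_surjective, Ideal.mk_ker,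
    PrimeSpectrum.zeroLocus_pow _ n.succ_ne_zero]

/-- The closed fibre in a thickening. -/
def jt (X : Scheme.{u}) [X.Over (Spec (CommRingCat.of A))] (n : ℕ) : Xt I X 0 ⟶ Xt I X n :=
  pullback.map _ _ _ _ (𝟙 X)
    (Spec.map (CommRingCat.ofHom (Ideal.Quotient.factor
      (Ideal.pow_le_pow_right (Nat.le_add_left 1 n) : I ^ (n + 1) ≤ I ^ (0 + 1))))) (𝟙 _)
    (by rw [Category.comp_id, Category.id_comp])
    (by
      rw [Category.comp_id, CohB1.specQuot, CohB1.specQuot, ← Spec.map_comp, ← CommRingCat.ofHom_comp]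
      rfl)

theorem jt_it (n : ℕ) : jt I X n ≫ it I X n = it I X 0 := by
  rw [jt, pullback.lift_fst, Category.comp_id]

instance (n : ℕ) : IsClosedImmersion (jt I X n) := by
  have : IsClosedImmersion (jt I X n ≫ it I X n) := by rw [jt_it]; infer_instance
  exact IsClosedImmersion.of_comp (jt I X n) (it I X n)

instance (n : ℕ) : Surjective (jt I X n) := ⟨fun y => by
  obtain ⟨z, hz⟩ : it I X n y ∈ Set.range (it I X 0) := by
    rw [range_it, ← range_it I n]
    exact ⟨y, rfl⟩
  refine ⟨z, (it I X n).isClosedEmbedding.injective ?_⟩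
  rw [← Scheme.Hom.comp_apply, jt_it]
  exact hz⟩

variable {X' : Scheme.{u}} [X'.Over (Spec (CommRingCat.of A))] (f : X' ⟶ X)
  (hf : f ≫ (X ↘ Spec (CommRingCat.of A)) = X' ↘ Spec (CommRingCat.of A))

/-- The map on thickenings. -/
abbrev ft (n : ℕ) : Xt I X' n ⟶ Xt I X n :=
  pullback.map (X' ↘ Spec (CommRingCat.of A)) (CohB1.specQuot I n) (X ↘ Spec (CommRingCat.of A)) (CohB1.specQuot I n)
    f (𝟙 _) (𝟙 _) ((Category.comp_id _).trans hf.symm) ((Category.comp_id _).trans (Category.id_comp _).symm)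

theorem ft_it (n : ℕ) : ft I f hf n ≫ it I X n = it I X' n ≫ f := pullback.lift_fst _ _ _

theorem isPullback_ft (n : ℕ) : IsPullback (ft I f hf n) (it I X' n) (it I X n) f := by
  have h : IsPullback (it I X' n) (ft I f hf n ≫ pullback.snd _ _) (f ≫ (X ↘ Spec (CommRingCat.of A)))
      (CohB1.specQuot I n) := by
    rw [pullback.lift_snd, Category.comp_id, hf]
    exact IsPullback.of_hasPullback _ _
  exact (IsPullback.of_bot h (ft_it I f hf n).symm (IsPullback.of_hasPullback _ _)).flip

theorem isIso_ft [IsLocallyNoetherian X] [Flat f] (h₀ : IsIso (ft I f hf 0)) (n : ℕ) : IsIso (ft I f hf n) := by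
  haveI : IsLocallyNoetherian (Xt I X n) := LocallyOfFiniteType.isLocallyNoetherian (it I X n)
  haveI : Flat (ft I f hf n) := MorphismProperty.of_isPullback (isPullback_ft I f hf n).flip ‹Flat f›
  refine isIso_of_flat_of_isPullback (ft I f hf n) (jt I X n) (jt I X' n) (ft I f hf 0) ?_
  have hw : jt I X' n ≫ ft I f hf n = ft I f hf 0 ≫ jt I X n := by
    refine pullback.hom_ext ?_ ?_
    · rw [Category.assoc, Category.assoc, ft_it, ← Category.assoc, jt_it, jt_it, ft_it]
    · simp only [jt, ft, Category.assoc, pullback.lift_snd, pullback.lift_snd_assoc, Category.comp_id]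
  refine IsPullback.of_bot ?_ hw.symm (isPullback_ft I f hf n)
  rw [jt_it, jt_it]
  exact isPullback_ft I f hf 0

theorem isIso_unit_of_killedBy [AlgebraicGeometry.IsNoetherian X] {M : X.Modules} [Coh.IsQCoh M] {n : ℕ} (h : Formal.KilledBy (I ^ (n + 1)) M) :
    IsIso ((Scheme.Modules.pullbackPushforwardAdjunction (it I X n)).unit.app M) :=
  DCohLib.isIso_unit_of_suppOn (it I X n) (ClSubLib.suppOn_of_killed (it I X n) M (killedByIdeal_of_killedBy I h))

theorem killedBy_pushforward [AlgebraicGeometry.IsNoetherian X] {n : ℕ} (P : (Xt I X n).Modules) :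
    Formal.KilledBy (I ^ (n + 1)) ((Scheme.Modules.pushforward (it I X n)).obj P) :=
  (FormalSys.killedBy_iff _ _).2 fun U hU a ha s => by
    have hk := FormalSys.ker_thickι (X := X) I n ⟨U, hU⟩
    have h0 : (it I X n).app U (φV (FormalLib.cst A X) U a) = 0 := by
      rw [← RingHom.mem_ker]
      show φV (FormalLib.cst A X) U a ∈ RingHom.ker ((CohB1.thickι (X ↘ Spec (CommRingCat.of A)) I n).app U).hom
      rw [hk, ← FormalSys.JU_pow]
      exact Ideal.mem_map_of_mem _ ha
    show (it I X n).app U (φV (FormalLib.cst A X) U a) • (show Γ(P, it I X n ⁻¹ᵁ U) from s) = 0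
    rw [h0, zero_smul]

end Groth.Agent.FormalEqLib
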