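import Groth.Agent.RelDivLib.ImmBC
import Groth.Agent.S0440
import Mathlib.RingTheory.Ideal.Pure

/-!
# A flat morphism which is an isomorphism over a nilpotent thickening is an isomorphism
-/

set_option autoImplicit false
set_option linter.style.haveILetI false

universe u

open CategoryTheory CategoryTheory.Limits AlgebraicGeometry TopologicalSpace Opposite

noncomputable section

namespace Groth.Agent.FormalEqLib

/-- The kernel of a surjective closed immersion on an affine open consists of nilpotents. -/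
theorem isNilpotent_of_app_eq_zero {Z Y : Scheme.{u}} (j : Z ⟶ Y) [Surjective j] {U : Y.Opens}
    (hU : IsAffineOpen U) {a : Γ(Y, U)} (ha : j.app U a = 0) : IsNilpotent a := by
  refine (Scheme.isNilpotent_iff_basicOpen_eq_bot_of_isCompact hU.isCompact a).2 ?_
  refine le_bot_iff.1 fun y hy => ?_
  obtain ⟨z, rfl⟩ := j.surjective y
  have hz : z ∈ j ⁻¹ᵁ (Y.basicOpen a) := hy
  rw [Scheme.preimage_basicOpen, ha, Scheme.basicOpen_zero] at hz
  exact hz.elim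

theorem mem_map_nilpotent_range {A B : Type u} [CommRing A] [CommRing B] (φ : A →+* B) (K : Ideal A)
    (hK : IsNilpotent K) (h : ∀ b : B, ∃ a, b - φ a ∈ K.map φ) : Function.Surjective φ := by
  obtain ⟨m, hm⟩ := hK
  have key : ∀ (k : ℕ), ∀ b : B, ∃ a, b - φ a ∈ (K ^ k).map φ := by
    intro k
    induction k with
    | zero => exact fun b => ⟨0, by rw [pow_zero, Ideal.one_eq_top, Ideal.map_top]; trivial⟩
    | succ k ih =>
      intro b
      obtain ⟨a, ha⟩ := ih b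
      have hspan : ∀ z ∈ (K ^ k).map φ, ∃ a', z - φ a' ∈ (K ^ (k + 1)).map φ := fun z hz => by
        induction hz using Submodule.span_induction with
        | mem z hz => obtain ⟨x, hx, rfl⟩ := hz; exact ⟨x, by rw [sub_self]; exact zero_mem _⟩
        | zero => exact ⟨0, by rw [map_zero, sub_zero]; exact zero_mem _⟩
        | add z z' _ _ hz hz' =>
          obtain ⟨x, hx⟩ := hz
          obtain ⟨x', hx'⟩ := hz'
          exact ⟨x + x', by rw [map_add, add_sub_add_comm]; exact add_mem hx hx'⟩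
        | smul c z hz hz' =>
          obtain ⟨x, hx⟩ := hz'
          obtain ⟨a₀, ha₀⟩ := h c
          refine ⟨a₀ * x, ?_⟩
          have e : c • z - φ (a₀ * x) = (c - φ a₀) * z + φ a₀ * (z - φ x) := by
            rw [smul_eq_mul, map_mul]; ring
          rw [e]
          refine add_mem ?_ (Ideal.mul_mem_left _ _ hx)
          rw [pow_succ', Ideal.map_mul]
          exact Ideal.mul_mem_mul ha₀ hz
      obtain ⟨a', ha'⟩ := hspan _ ha
      exact ⟨a + a', by rwa [map_add, ← sub_sub]⟩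
  intro b
  obtain ⟨a, ha⟩ := key m b
  rw [hm, Ideal.zero_eq_bot, Ideal.map_bot, Ideal.mem_bot, sub_eq_zero] at ha
  exact ⟨a, ha.symm⟩

/-- A flat morphism which restricts to an isomorphism over a surjective closed subscheme with nilpotent
ideal is an isomorphism. -/
theorem isIso_of_flat_of_isPullback {P Y Z P₀ : Scheme.{u}} (g : P ⟶ Y) [Flat g] (j : Z ⟶ Y) [IsClosedImmersion j]
    [Surjective j] [IsLocallyNoetherian Y] (j' : P₀ ⟶ P) (g₀ : P₀ ⟶ Z) [IsIso g₀] (hpb : IsPullback g₀ j' j g) :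
    IsIso g := by
  haveI : IsClosedImmersion j' := MorphismProperty.of_isPullback hpb ‹_›
  haveI : Surjective j' := MorphismProperty.of_isPullback hpb ‹_›
  haveI : IsAffineHom g := ⟨fun W hW => by
    have hpre : g₀ ⁻¹ᵁ (j ⁻¹ᵁ W) = j' ⁻¹ᵁ (g ⁻¹ᵁ W) := by
      rw [← Scheme.Hom.comp_preimage, hpb.w, Scheme.Hom.comp_preimage]
    haveI : IsAffine ((j' ⁻¹ᵁ (g ⁻¹ᵁ W)) : P₀.Opens).toScheme := by
      rw [← hpre]
      exact (hW.preimage j).preimage g₀
    haveI : IsClosedImmersion (j' ∣_ (g ⁻¹ᵁ W)) := IsZariskiLocalAtTarget.restrict ‹_› _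
    haveI : Surjective (j' ∣_ (g ⁻¹ᵁ W)) := IsZariskiLocalAtTarget.restrict ‹Surjective j'› _
    exact Groth.Agent.S0440.result (j' ∣_ (g ⁻¹ᵁ W)) (Scheme.Hom.surjective _)⟩
  rw [← MorphismProperty.isomorphisms.iff,
    IsZariskiLocalAtTarget.iff_of_iSup_eq_top (P := MorphismProperty.isomorphisms Scheme) _
      (AlgebraicGeometry.iSup_affineOpens_eq_top Y)]
  intro U
  show IsIso (g ∣_ U.1)
  have hpre : g₀ ⁻¹ᵁ (j ⁻¹ᵁ U.1) = j' ⁻¹ᵁ (g ⁻¹ᵁ U.1) := by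
    rw [← Scheme.Hom.comp_preimage, hpb.w, Scheme.Hom.comp_preimage]
  have hV : IsAffineOpen (g ⁻¹ᵁ U.1) := U.2.preimage g
  rw [isIso_morphismRestrict_iff_isIso_app g U.2, ConcreteCategory.isIso_iff_bijective]
  let φ : Γ(Y, U.1) →+* Γ(P, g ⁻¹ᵁ U.1) := (g.app U.1).hom
  let K : Ideal Γ(Y, U.1) := RingHom.ker (j.app U.1).hom
  have hcl : IsClosedImmersion (j ∣_ U.1) := IsZariskiLocalAtTarget.restrict ‹_› _
  obtain ⟨-, hk⟩ := RelDivLib.closed_and_ker_pullback hpb U.2 hcl hV le_rfl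
  rw [← Scheme.Hom.app_eq_appLE] at hk
  haveI : IsNoetherianRing Γ(Y, U.1) := IsLocallyNoetherian.component_noetherian U
  have hKn : IsNilpotent K := by
    obtain ⟨m, hm⟩ := Ideal.exists_pow_le_of_le_radical_of_fg (I := K) (J := ⊥) (fun a ha => by
      obtain ⟨k, hk'⟩ := isNilpotent_of_app_eq_zero j U.2 (RingHom.mem_ker.1 ha)
      exact ⟨k, hk'⟩) (IsNoetherian.noetherian _)
    exact ⟨m, le_bot_iff.1 hm⟩
  have hg₀ : Function.Bijective (g₀.app (j ⁻¹ᵁ U.1)) := ConcreteCategory.bijective_of_isIso _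
  have hw : ∀ a, j'.appLE (g ⁻¹ᵁ U.1) (g₀ ⁻¹ᵁ (j ⁻¹ᵁ U.1)) hpre.le (φ a) = g₀.app (j ⁻¹ᵁ U.1) (j.app U.1 a) := by
    intro a
    have key : ∀ {r r' : P₀ ⟶ Y} (e : r = r') (W : P₀.Opens) (h : W ≤ r ⁻¹ᵁ U.1) (h' : W ≤ r' ⁻¹ᵁ U.1),
        r.appLE U.1 W h a = r'.appLE U.1 W h' a := fun {r r'} e W h h' => by subst e; rfl
    have e := key hpb.w (g₀ ⁻¹ᵁ (j ⁻¹ᵁ U.1)) le_rfl hpre.le
    have e1 := congr($(Scheme.Hom.comp_appLE g₀ j U.1 (g₀ ⁻¹ᵁ (j ⁻¹ᵁ U.1)) le_rfl) a)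
    have e2 := congr($(Scheme.Hom.comp_appLE j' g U.1 (g₀ ⁻¹ᵁ (j ⁻¹ᵁ U.1)) hpre.le) a)
    have e3 := congr($(Scheme.Hom.app_eq_appLE g₀ (U := j ⁻¹ᵁ U.1)) (j.app U.1 a))
    exact e2.symm.trans (e.symm.trans (e1.trans e3.symm))
  have hzero : ∀ b, j'.app (g ⁻¹ᵁ U.1) b = 0 ↔ j'.appLE (g ⁻¹ᵁ U.1) (g₀ ⁻¹ᵁ (j ⁻¹ᵁ U.1)) hpre.le b = 0 := by
    intro b
    simp only [Scheme.Hom.appLE, CommRingCat.comp_apply]
    haveI : IsIso (homOfLE hpre.le) := ⟨homOfLE hpre.ge, Subsingleton.elim _ _, Subsingleton.elim _ _⟩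
    exact (map_eq_zero_iff _ (ConcreteCategory.bijective_of_isIso
      (P₀.presheaf.map (homOfLE hpre.le).op)).1).symm
  have hsurj : Function.Surjective φ := by
    refine mem_map_nilpotent_range φ K hKn fun b => ?_
    obtain ⟨c, hc⟩ := hg₀.2 (j'.appLE (g ⁻¹ᵁ U.1) (g₀ ⁻¹ᵁ (j ⁻¹ᵁ U.1)) hpre.le b)
    obtain ⟨a, rfl⟩ := j.app_surjective U.1 U.2 c
    refine ⟨a, ?_⟩
    rw [← hk, RingHom.mem_ker, hzero, map_sub, hw, hc, sub_self]
  refine ⟨(injective_iff_map_eq_zero φ).2 fun a ha => ?_, hsurj⟩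
  have hflat : φ.Flat := by
    have := HasRingHomProperty.appLE @Flat g inferInstance U ⟨g ⁻¹ᵁ U.1, hV⟩ le_rfl
    rwa [← Scheme.Hom.app_eq_appLE] at this
  haveI : (RingHom.ker φ).Pure := by
    letI := φ.toAlgebra
    haveI : Module.Flat Γ(Y, U.1) Γ(P, g ⁻¹ᵁ U.1) := hflat
    exact Module.Flat.of_linearEquiv
      (Ideal.quotientKerAlgEquivOfSurjective (f := Algebra.ofId Γ(Y, U.1) Γ(P, g ⁻¹ᵁ U.1)) hsurj).toLinearEquiv
  have hle : RingHom.ker φ ≤ K := fun x hx => by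
    rw [RingHom.mem_ker]
    refine hg₀.1 ?_
    rw [map_zero, ← hw, RingHom.mem_ker.1 hx, map_zero]
  obtain ⟨y, hy, he⟩ := Ideal.exists_eq_mul_of_pure (RingHom.mem_ker.2 ha : a ∈ RingHom.ker φ)
  obtain ⟨k, hk'⟩ := hKn
  have hy' : IsNilpotent y := ⟨k, Ideal.mem_bot.1 (hk'.le (Ideal.pow_mem_pow (hle hy) k))⟩
  exact ((hy'.isUnit_one_sub).mul_left_eq_zero).1 (show a * (1 - y) = 0 by rw [mul_sub, mul_one, ← he, sub_self])

end Groth.Agent.FormalEqLib
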